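/-
Characters of a finite vector group acting on a complex space, indexed by linear forms.
-/
import Cfsg.Agent.Lib.Lie.ReeRepBasic

set_option autoImplicit false

namespace Cfsg.Agent.Heis

open LinearMap Module

/-! ### Commuting families of one-parameter groups -/

section pi

variable {F M ι : Type*} [AddCommMonoid F] [Monoid M] [Fintype ι]

/-- the product of pairwise commuting one-parameter groups -/
noncomputable def piChar (x : ι → AddChar F M) (h : ∀ i j, i ≠ j → ∀ s t, Commute (x i s) (x j t)) :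
    AddChar (ι → F) M where
  toFun v := MonoidHom.noncommPiCoprod (N := fun _ => Multiplicative F) (fun i => (x i).toMonoidHom)
    (fun i j hij s t => h i j hij _ _) fun i => Multiplicative.ofAdd (v i)
  map_zero_eq_one' := map_one (MonoidHom.noncommPiCoprod (N := fun _ => Multiplicative F) _ _)
  map_add_eq_mul' v w := map_mul (MonoidHom.noncommPiCoprod (N := fun _ => Multiplicative F) _ _)
    (fun i => Multiplicative.ofAdd (v i)) (fun i => Multiplicative.ofAdd (w i))

theorem piChar_single [DecidableEq ι] (x : ι → AddChar F M)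
    (h : ∀ i j, i ≠ j → ∀ s t, Commute (x i s) (x j t)) (i : ι) (t : F) :
    piChar x h (Pi.single i t) = x i t := by
  show MonoidHom.noncommPiCoprod (N := fun _ => Multiplicative F) (fun i => (x i).toMonoidHom)
    (fun i j hij s t => h i j hij _ _)
    (fun j => Multiplicative.ofAdd (Pi.single (M := fun _ => F) i t j)) = _
  rw [show (fun j => Multiplicative.ofAdd (Pi.single (M := fun _ => F) i t j)) =
    Pi.mulSingle i (Multiplicative.ofAdd t) from funext fun j => by
      by_cases hj : j = i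
      · subst hj; simp
      · simp [hj]]
  exact MonoidHom.noncommPiCoprod_mulSingle (N := fun _ : ι => Multiplicative F)
    (ϕ := fun i => (x i).toMonoidHom) (hcomm := fun i j hij s t => h i j hij _ _) i (Multiplicative.ofAdd t)

/-- Two characters of a power agree when they agree on the coordinates. -/
theorem pi_ext [DecidableEq ι] {a b : AddChar (ι → F) M}
    (h : ∀ i t, a (Pi.single i t) = b (Pi.single i t)) (v : ι → F) : a v = b v := by
  rw [← Finset.univ_sum_single v]
  exact Finset.sum_induction _ (fun u => a u = b u)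
    (fun u w hu hw => by rw [AddChar.map_add_eq_mul, AddChar.map_add_eq_mul, hu, hw])
    (by rw [AddChar.map_zero_eq_one, AddChar.map_zero_eq_one]) fun i _ => h i (v i)

end pi

/-! ### Multiplicities of linear forms -/

variable {F V W : Type*} [Field F] [AddCommGroup V] [Module F V] [AddCommGroup W] [Module ℂ W]

/-- the character of a linear form -/
def ch (ψ₁ : AddChar F ℂ) (l : V →ₗ[F] F) : AddChar V ℂ := ψ₁.compAddMonoidHom l.toAddMonoidHom

theorem ch_apply (ψ₁ : AddChar F ℂ) (l : V →ₗ[F] F) (v : V) : ch ψ₁ l v = ψ₁ (l v) := rfl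

variable [Fintype F]

/-- the multiplicity of a linear form -/
noncomputable def mu (ψ₁ : AddChar F ℂ) [Fintype V] (R : AddChar V (Module.End ℂ W)) (l : V →ₗ[F] F) : ℕ :=
  ReeRep.mult R (ch ψ₁ l)

variable {ψ₁ : AddChar F ℂ} (hψ₁ : ψ₁.IsPrimitive)

include hψ₁ in
theorem ch_bijective : Function.Bijective (ch ψ₁ : (V →ₗ[F] F) → AddChar V ℂ) := by
  classical
  have hinj : Function.Injective fun a : F => ψ₁.mulShift a := AddChar.to_mulShift_inj_of_isPrimitive hψ₁
  have hbij : Function.Bijective fun a : F => ψ₁.mulShift a :=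
    (Fintype.bijective_iff_injective_and_card _).2 ⟨hinj, AddChar.card_eq.symm⟩
  refine ⟨fun l l' h => LinearMap.ext fun v => hinj (DFunLike.ext _ _ fun t => ?_), fun χ => ?_⟩
  · have := DFunLike.congr_fun h (t • v)
    simpa [ch_apply, AddChar.mulShift_apply, mul_comm] using this
  choose L hL using fun v : V =>
    hbij.2 (χ.compAddMonoidHom ((LinearMap.toSpanSingleton F V v).toAddMonoidHom))
  have hap : ∀ (v : V) (t : F), ψ₁ (L v * t) = χ (t • v) := fun v t => by
    have h := DFunLike.congr_fun (hL v) t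
    simpa [AddChar.mulShift_apply] using h
  have huniq : ∀ (v : V) (a : F), (∀ t, ψ₁ (a * t) = χ (t • v)) → L v = a := fun v a ha =>
    hinj (DFunLike.ext _ _ fun t => by
      simp only [AddChar.mulShift_apply]
      rw [hap, ha])
  refine ⟨{ toFun := L, map_add' := fun v w => huniq _ _ fun t => ?_, map_smul' := fun c v => huniq _ _ fun t => ?_ },
    DFunLike.ext _ _ fun v => ?_⟩
  · rw [add_mul, AddChar.map_add_eq_mul, hap, hap, smul_add, AddChar.map_add_eq_mul]
  · rw [RingHom.id_apply, smul_eq_mul, mul_comm c, mul_assoc, hap, smul_smul, mul_comm c]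
  · show ψ₁ (L v) = χ v
    have := hap v 1
    rwa [mul_one, one_smul] at this

variable [Fintype V]

theorem mem_range_proj {R : AddChar V (Module.End ℂ W)} (χ : AddChar V ℂ) (x : W) :
    x ∈ range (ReeRep.proj R χ) ↔ ∀ v, R v x = χ v • x := by
  constructor
  · rintro ⟨y, rfl⟩ v
    rw [← Module.End.mul_apply, ReeRep.mul_proj, LinearMap.smul_apply]
  · intro h
    refine ⟨x, ?_⟩
    simp only [ReeRep.proj, LinearMap.smul_apply, LinearMap.sum_apply, h, smul_smul,
      ← AddChar.map_add_eq_mul, neg_add_cancel, AddChar.map_zero_eq_one, one_smul, Finset.sum_const,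
      Finset.card_univ, ← Nat.cast_smul_eq_nsmul ℂ]
    rw [inv_mul_cancel₀ (Nat.cast_ne_zero.2 Fintype.card_ne_zero), one_smul]

theorem eig_apply {R : AddChar V (Module.End ℂ W)} {l : V →ₗ[F] F} {x : W}
    (hx : x ∈ range (ReeRep.proj R (ch ψ₁ l))) (v : V) : R v x = ψ₁ (l v) • x :=
  (mem_range_proj _ _).1 hx v

variable [FiniteDimensional ℂ W]

include hψ₁ in
theorem sum_mu [Fintype (V →ₗ[F] F)] (R : AddChar V (Module.End ℂ W)) :
    ∑ l : V →ₗ[F] F, mu ψ₁ R l = finrank ℂ W := by
  rw [← ReeRep.sum_mult R]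
  exact Function.Bijective.sum_comp (ch_bijective hψ₁) fun χ => ReeRep.mult R χ

theorem mu_conj {R : AddChar V (Module.End ℂ W)} {g g' : Module.End ℂ W} (A : V →ₗ[F] V)
    (hA : Function.Bijective A) (hg : g * g' = 1) (h : ∀ v, g' * R (A v) * g = R v) (l : V →ₗ[F] F) :
    mu ψ₁ R (l ∘ₗ A) = mu ψ₁ R l := by
  unfold mu
  rw [show ch ψ₁ (l ∘ₗ A) = (ch ψ₁ l).compAddMonoidHom A.toAddMonoidHom from rfl]
  exact ReeRep.mult_conj (c := A.toAddMonoidHom) hA h hg _

/-- The projection of a character of a subgroup. -/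
theorem proj_restrict {U : Type*} [AddCommGroup U] [Fintype U] [DecidableEq (AddChar U ℂ)] (ι : U →+ V)
    (R : AddChar V (Module.End ℂ W)) (χ : AddChar U ℂ) :
    ReeRep.proj (R.compAddMonoidHom ι) χ =
      ∑ φ : AddChar V ℂ with φ.compAddMonoidHom ι = χ, ReeRep.proj R φ := by
  have key : ∀ φ : AddChar V ℂ, ReeRep.proj (R.compAddMonoidHom ι) χ * ReeRep.proj R φ =
      if φ.compAddMonoidHom ι = χ then ReeRep.proj R φ else 0 := by
    intro φ
    rw [ReeRep.proj, smul_mul_assoc, Finset.sum_mul]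
    simp only [smul_mul_assoc, AddChar.compAddMonoidHom_apply, ReeRep.mul_proj, smul_smul]
    rw [← Finset.sum_smul, smul_smul]
    have e : ∀ a, χ (-a) * φ (ι a) = (φ.compAddMonoidHom ι - χ) a := fun a => by
      rw [AddChar.sub_apply', AddChar.map_neg_eq_inv, mul_comm, div_eq_mul_inv, AddChar.compAddMonoidHom_apply]
    rw [Finset.sum_congr rfl fun a _ => e a, AddChar.sum_eq_ite]
    by_cases h : φ.compAddMonoidHom ι = χ
    · rw [if_pos h, if_pos (by rw [h, sub_self]), inv_mul_cancel₀ (Nat.cast_ne_zero.2 Fintype.card_ne_zero),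
        one_smul]
    · rw [if_neg h, if_neg (fun e => h (sub_eq_zero.1 e)), mul_zero, zero_smul]
  conv_lhs => rw [← mul_one (ReeRep.proj (R.compAddMonoidHom ι) χ), ← ReeRep.sum_proj R, Finset.mul_sum]
  rw [Finset.sum_congr rfl fun φ _ => key φ, ← Finset.sum_filter]

/-- Restriction of characters to a subgroup. -/
theorem mult_restrict {U : Type*} [AddCommGroup U] [Fintype U] [DecidableEq (AddChar U ℂ)] (ι : U →+ V)
    (R : AddChar V (Module.End ℂ W)) (χ : AddChar U ℂ) :
    ReeRep.mult (R.compAddMonoidHom ι) χ =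
      ∑ φ : AddChar V ℂ with φ.compAddMonoidHom ι = χ, ReeRep.mult R φ := by
  have hs := proj_restrict ι R χ
  have h := congrArg (trace ℂ W) hs
  rw [map_sum, ReeRep.trace_proj] at h
  simp only [ReeRep.trace_proj] at h
  exact_mod_cast h

include hψ₁ in
theorem mu_restrict {U : Type*} [AddCommGroup U] [Module F U] [Fintype U] [Fintype (V →ₗ[F] F)]
    [DecidableEq (U →ₗ[F] F)] (ι : U →ₗ[F] V) (R : AddChar V (Module.End ℂ W)) (k : U →ₗ[F] F) :
    mu ψ₁ (R.compAddMonoidHom ι.toAddMonoidHom) k =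
      ∑ l : V →ₗ[F] F with l ∘ₗ ι = k, mu ψ₁ R l := by
  classical
  unfold mu
  rw [mult_restrict ι.toAddMonoidHom R, Finset.sum_filter, Finset.sum_filter]
  refine (Fintype.sum_bijective _ (ch_bijective hψ₁) _ _ fun l => ?_).symm
  have hiff : (ch ψ₁ l).compAddMonoidHom ι.toAddMonoidHom = ch ψ₁ k ↔ l ∘ₗ ι = k := by
    rw [show (ch ψ₁ l).compAddMonoidHom ι.toAddMonoidHom = ch ψ₁ (l ∘ₗ ι) from rfl]
    exact (ch_bijective hψ₁).1.eq_iff
  simp only [hiff]

include hψ₁ in
theorem sum_proj_ch [Fintype (V →ₗ[F] F)] (R : AddChar V (Module.End ℂ W)) :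
    ∑ l : V →ₗ[F] F, ReeRep.proj R (ch ψ₁ l) = 1 := by
  rw [← ReeRep.sum_proj R]
  exact Function.Bijective.sum_comp (ch_bijective hψ₁) fun χ => ReeRep.proj R χ

/-- The trace of an element permuting the eigenspaces: a moved one contributes nothing. -/
theorem trace_mul_proj_of_moved {R : AddChar V (Module.End ℂ W)} {g g' : Module.End ℂ W} (hg : g * g' = 1)
    {A : V →ₗ[F] V} (hA : Function.Bijective A) (h : ∀ v, g' * R (A v) * g = R v) {l : V →ₗ[F] F}
    (hψ₁ : ψ₁.IsPrimitive) (hl : l ∘ₗ A ≠ l) : trace ℂ W (g * ReeRep.proj R (ch ψ₁ l)) = 0 := by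
  classical
  have e : ReeRep.proj R (ch ψ₁ l) * g = g * ReeRep.proj R (ch ψ₁ (l ∘ₗ A)) := by
    rw [show ch ψ₁ (l ∘ₗ A) = (ch ψ₁ l).compAddMonoidHom A.toAddMonoidHom from rfl,
      ← ReeRep.conj_proj (c := A.toAddMonoidHom) hA h, ← mul_assoc, ← mul_assoc, hg, one_mul]
  rw [← (ReeRep.isIdempotentElem_proj (R := R) (ch ψ₁ l)).eq, ← mul_assoc, trace_mul_comm, ← mul_assoc, e,
    mul_assoc, ReeRep.proj_mul, if_neg (fun h' => hl ((ch_bijective hψ₁).1 h')), mul_zero, map_zero]

/-- A one-dimensional eigenspace which is fixed contributes one. -/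
theorem trace_mul_proj_of_fixed {R : AddChar V (Module.End ℂ W)} {g : Module.End ℂ W} {l : V →ₗ[F] F}
    (h : ∀ x ∈ range (ReeRep.proj R (ch ψ₁ l)), g x = x) :
    trace ℂ W (g * ReeRep.proj R (ch ψ₁ l)) = (mu ψ₁ R l : ℂ) := by
  rw [mu, ← ReeRep.trace_proj]
  congr 1
  exact LinearMap.ext fun x => h _ ⟨x, rfl⟩

/-- In an eigenspace of dimension one every vector is a multiple of a nonzero one. -/
theorem exists_smul_of_mu_one {R : AddChar V (Module.End ℂ W)} {l : V →ₗ[F] F} (h1 : mu ψ₁ R l = 1)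
    {v x : W} (hv : v ∈ range (ReeRep.proj R (ch ψ₁ l))) (hv0 : v ≠ 0)
    (hx : x ∈ range (ReeRep.proj R (ch ψ₁ l))) : ∃ c : ℂ, x = c • v := by
  obtain ⟨c, hc⟩ := (finrank_eq_one_iff_of_nonzero' ⟨v, hv⟩ (fun h => hv0 (congrArg Subtype.val h))).1 h1 ⟨x, hx⟩
  exact ⟨c, (congrArg Subtype.val hc).symm⟩

theorem exists_of_mu_ne_zero {R : AddChar V (Module.End ℂ W)} {l : V →ₗ[F] F} (h : mu ψ₁ R l ≠ 0) :
    ∃ v, v ≠ 0 ∧ v ∈ range (ReeRep.proj R (ch ψ₁ l)) := by
  obtain ⟨v, hv, hv0⟩ := (Submodule.ne_bot_iff _).1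
    (fun e => h ((congrArg (fun S : Submodule ℂ W => finrank ℂ S) e).trans (finrank_bot ℂ W)))
  exact ⟨v, hv0, hv⟩

end Cfsg.Agent.Heis
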