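/-
The multiplicities of the characters of a maximal abelian normal subgroup of a special unipotent radical.
-/
import Cfsg.Agent.Lib.MinDegree.Heis.Char

set_option autoImplicit false

namespace Cfsg.Agent.Heis

open LinearMap Module

variable (F T G : Type*) [Field F] [AddCommGroup T] [Module F T] [Group G]

/-- A maximal abelian subgroup `Y` of the radical: its first coordinate is the centre, the second a root
group conjugate to the centre. -/
structure Sys where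
  Y : AddChar (F × F × T) G
  shiftZ : ∀ φ : (F × T) →ₗ[F] F, ∃ g, ∀ v, g * Y v * g⁻¹ = Y (v.1 + φ v.2, v.2)
  shiftD : ∀ φ : T →ₗ[F] F, ∃ g, ∀ v, g * Y v * g⁻¹ = Y (v.1, v.2.1 + φ v.2.2, v.2.2)
  swap : ∃ g, ∃ ε : F, ε ≠ 0 ∧ ∀ t, g * Y (0, t, 0) * g⁻¹ = Y (ε * t, 0, 0)

variable {F T G} in
/-- Elements scaling the centre and normalising the complement. -/
def Sys.Scales (S : Sys F T G) : Prop :=
  ∀ k : F, k ≠ 0 → ∃ g, ∃ A : (F × T) ≃ₗ[F] (F × T), ∀ v, g * S.Y v * g⁻¹ = S.Y (k * v.1, A v.2)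

variable {F T G}

/-- the linear form with given coordinates -/
def lf (k d : F) (φ : T →ₗ[F] F) : F × F × T →ₗ[F] F :=
  (k • LinearMap.id).coprod ((d • LinearMap.id).coprod φ)

theorem lf_apply (k d : F) (φ : T →ₗ[F] F) (v : F × F × T) : lf k d φ v = k * v.1 + (d * v.2.1 + φ v.2.2) := by
  simp [lf]

/-- a linear form and its coordinates -/
def lfEquiv : (F × F × (T →ₗ[F] F)) ≃ (F × F × T →ₗ[F] F) where
  toFun p := lf p.1 p.2.1 p.2.2
  invFun l := (l (1, 0, 0), l (0, 1, 0), (l ∘ₗ LinearMap.inr F F (F × T)) ∘ₗ LinearMap.inr F F T)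
  left_inv p := by
    refine Prod.ext ?_ (Prod.ext ?_ (LinearMap.ext fun t => ?_)) <;> simp [lf_apply]
  right_inv l := LinearMap.ext fun v => by
    rw [lf_apply]
    simp only [LinearMap.comp_apply, LinearMap.inr_apply]
    conv_rhs => rw [show v = v.1 • ((1 : F), (0 : F), (0 : T)) + (v.2.1 • ((0 : F), (1 : F), (0 : T)) + ((0 : F), (0 : F), v.2.2))
      by ext <;> simp]
    simp only [map_add, map_smul, smul_eq_mul]
    simp [mul_comm]

namespace Sys

variable {W : Type*} [AddCommGroup W] [Module ℂ W] (S : Sys F T G) (f : G →* Module.End ℂ W)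

/-- the action of `Y` -/
noncomputable def R : AddChar (F × F × T) (Module.End ℂ W) := f.compAddChar S.Y

theorem R_apply (v : F × F × T) : S.R f v = f (S.Y v) := rfl

/-- the action of the centre -/
noncomputable def RZ : AddChar F (Module.End ℂ W) :=
  (S.R f).compAddMonoidHom (LinearMap.inl F F (F × T)).toAddMonoidHom

variable [Fintype F] [Fintype T] [FiniteDimensional ℂ W]
variable {ψ₁ : AddChar F ℂ} (hψ₁ : ψ₁.IsPrimitive)

theorem inv_conj {g : G} {a b : G} (h : g * a * g⁻¹ = b) : f g⁻¹ * f b * f g = f a := by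
  rw [← map_mul, ← map_mul, ← h]
  congr 1
  group

theorem hom_inv (g : G) : f g * f g⁻¹ = 1 := by rw [← map_mul, mul_inv_cancel, map_one]

theorem mu_of_conj {g : G} (A : F × F × T →ₗ[F] F × F × T) (hA : Function.Bijective A)
    (h : ∀ v, g * S.Y v * g⁻¹ = S.Y (A v)) (l : F × F × T →ₗ[F] F) :
    mu ψ₁ (S.R f) (l ∘ₗ A) = mu ψ₁ (S.R f) l :=
  mu_conj (g' := f g⁻¹) A hA (hom_inv f g) (fun v => inv_conj f (h v)) l

theorem mu_shiftZ (k d : F) (φ : T →ₗ[F] F) (a : F) (χ : T →ₗ[F] F) :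
    mu ψ₁ (S.R f) (lf k (d + k * a) (φ + k • χ)) = mu ψ₁ (S.R f) (lf k d φ) := by
  obtain ⟨g, hg⟩ := S.shiftZ ((a • LinearMap.id).coprod χ)
  obtain ⟨A, hA⟩ : ∃ A, A = LinearMap.id + (LinearMap.inl F F (F × T)) ∘ₗ ((a • LinearMap.id).coprod χ) ∘ₗ
      LinearMap.snd F F (F × T) := ⟨_, rfl⟩
  have hAv : ∀ v, A v = (v.1 + ((a • LinearMap.id).coprod χ) v.2, v.2) := fun v => by
    rw [hA]; ext <;> simp
  have hbij : Function.Bijective A := Finite.injective_iff_bijective.1 fun u v h => by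
    rw [hAv, hAv] at h
    have h2 : u.2 = v.2 := (Prod.ext_iff.1 h).2
    refine Prod.ext ?_ h2
    have h1 := (Prod.ext_iff.1 h).1
    rw [h2] at h1
    exact add_right_cancel h1
  rw [show lf k (d + k * a) (φ + k • χ) = lf k d φ ∘ₗ A from LinearMap.ext fun v => by
    rw [LinearMap.comp_apply, hAv, lf_apply, lf_apply]; simp; ring]
  exact S.mu_of_conj f A hbij (fun v => by rw [hAv]; exact hg v) _

theorem mu_shiftD (d : F) (φ χ : T →ₗ[F] F) :
    mu ψ₁ (S.R f) (lf 0 d (φ + d • χ)) = mu ψ₁ (S.R f) (lf 0 d φ) := by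
  obtain ⟨g, hg⟩ := S.shiftD χ
  obtain ⟨A, hA⟩ : ∃ A, A = LinearMap.id + (LinearMap.inr F F (F × T)) ∘ₗ (LinearMap.inl F F T) ∘ₗ χ ∘ₗ
      LinearMap.snd F F T ∘ₗ LinearMap.snd F F (F × T) := ⟨_, rfl⟩
  have hAv : ∀ v, A v = (v.1, v.2.1 + χ v.2.2, v.2.2) := fun v => by
    rw [hA]; ext <;> simp
  have hbij : Function.Bijective A := Finite.injective_iff_bijective.1 fun u v h => by
    rw [hAv, hAv] at h
    simp only [Prod.mk.injEq] at h
    obtain ⟨h1, h2, h3⟩ := h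
    rw [h3] at h2
    exact Prod.ext h1 (Prod.ext (add_right_cancel h2) h3)
  rw [show lf 0 d (φ + d • χ) = lf 0 d φ ∘ₗ A from LinearMap.ext fun v => by
    rw [LinearMap.comp_apply, hAv, lf_apply, lf_apply]; simp; ring]
  exact S.mu_of_conj f A hbij (fun v => by rw [hAv]; exact hg v) _

/-- The common multiplicity. -/
noncomputable def m (ψ₁ : AddChar F ℂ) : ℕ := mu ψ₁ (S.R f) (lf 1 0 0)

theorem mu_cst {k : F} (hk : k ≠ 0) (d : F) (φ : T →ₗ[F] F) :
    mu ψ₁ (S.R f) (lf k d φ) = mu ψ₁ (S.R f) (lf k 0 0) := by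
  have := S.mu_shiftZ f (ψ₁ := ψ₁) k 0 0 (k⁻¹ * d) (k⁻¹ • φ)
  rwa [zero_add, zero_add, mul_inv_cancel_left₀ hk, smul_smul, mul_inv_cancel₀ hk, one_smul] at this

/-- All nontrivial characters of the centre have the same multiplicity. -/
def Uniform (ψ₁ : AddChar F ℂ) : Prop := ∀ k : F, k ≠ 0 → mu ψ₁ (S.R f) (lf k 0 0) = S.m f ψ₁

theorem uniform_of_scales (hsc : S.Scales) : S.Uniform f ψ₁ := by
  intro k hk
  obtain ⟨g, A, hg⟩ := hsc k hk
  obtain ⟨B, hB⟩ : ∃ B, B = LinearMap.prodMap (k • (LinearMap.id : F →ₗ[F] F)) A.toLinearMap := ⟨_, rfl⟩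
  have hBv : ∀ v, B v = (k * v.1, A v.2) := fun v => by rw [hB]; simp
  have hbij : Function.Bijective B := Finite.injective_iff_bijective.1 fun u v h => by
    rw [hBv, hBv] at h
    simp only [Prod.mk.injEq] at h
    exact Prod.ext (mul_left_cancel₀ hk h.1) (A.injective h.2)
  rw [m, ← S.mu_of_conj f B hbij (fun v => by rw [hBv]; exact hg v) (lf 1 0 0)]
  congr 1
  exact LinearMap.ext fun v => by simp [lf_apply, hBv]

theorem mu_central (hu : S.Uniform f ψ₁) {k : F} (hk : k ≠ 0) (d : F) (φ : T →ₗ[F] F) :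
    mu ψ₁ (S.R f) (lf k d φ) = S.m f ψ₁ :=
  (S.mu_cst f hk d φ).trans (hu k hk)

variable [Fintype (T →ₗ[F] F)] [Fintype (F × F × T →ₗ[F] F)]

include hψ₁ in
theorem sum_lf (P : F → F → Prop) [∀ k d, Decidable (P k d)] :
    ∑ l : F × F × T →ₗ[F] F with P (l (1, 0, 0)) (l (0, 1, 0)), mu ψ₁ (S.R f) l =
      ∑ k : F, ∑ d : F, if P k d then ∑ φ : T →ₗ[F] F, mu ψ₁ (S.R f) (lf k d φ) else 0 := by
  rw [Finset.sum_filter, ← Equiv.sum_comp lfEquiv, Fintype.sum_prod_type]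
  refine Finset.sum_congr rfl fun k _ => ?_
  rw [Fintype.sum_prod_type]
  refine Finset.sum_congr rfl fun d _ => ?_
  have e : ∀ φ : T →ₗ[F] F, (lfEquiv (k, d, φ)) = lf k d φ := fun φ => rfl
  split_ifs with h
  · exact Finset.sum_congr rfl fun φ _ => by rw [e, if_pos (by simpa [lf_apply] using h)]
  · exact Finset.sum_eq_zero fun φ _ => by rw [e, if_neg (by simpa [lf_apply] using h)]

include hψ₁ in
theorem mu_RZ (a : F) :
    ReeRep.mult (S.RZ f) (ψ₁.mulShift a) = ∑ d : F, ∑ φ : T →ₗ[F] F, mu ψ₁ (S.R f) (lf a d φ) := by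
  classical
  have e : ψ₁.mulShift a = ch ψ₁ (a • (LinearMap.id : F →ₗ[F] F)) :=
    DFunLike.ext _ _ fun t => by simp [ch_apply, AddChar.mulShift_apply]
  rw [e]
  refine (mu_restrict hψ₁ (LinearMap.inl F F (F × T)) (S.R f) (a • LinearMap.id)).trans ?_
  have hiff : ∀ l : F × F × T →ₗ[F] F, l ∘ₗ LinearMap.inl F F (F × T) = a • LinearMap.id ↔
      l (1, 0, 0) = a := fun l => by
    refine ⟨fun h => ?_, fun h => LinearMap.ext_ring ?_⟩
    · have := LinearMap.congr_fun h 1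
      simpa [Prod.zero_eq_mk] using this
    · simpa [Prod.zero_eq_mk] using h
  rw [Finset.filter_congr fun l _ => hiff l, S.sum_lf f hψ₁ fun k _ => k = a]
  rw [Finset.sum_eq_single a (fun k _ hk => by simp [hk]) (fun h => absurd (Finset.mem_univ a) h)]
  simp

include hψ₁ in
theorem uniform_of_mult {M : ℕ} (h : ∀ k : F, k ≠ 0 →
    ReeRep.mult (S.RZ f) (ψ₁.mulShift k) = Fintype.card F * Fintype.card (T →ₗ[F] F) * M) :
    S.Uniform f ψ₁ ∧ S.m f ψ₁ = M := by
  have key : ∀ k : F, k ≠ 0 → mu ψ₁ (S.R f) (lf k 0 0) = M := fun k hk => by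
    have e := h k hk
    rw [S.mu_RZ f hψ₁] at e
    simp only [S.mu_cst f hk, Finset.sum_const, Finset.card_univ, smul_eq_mul, ← mul_assoc] at e
    exact Nat.eq_of_mul_eq_mul_left (Nat.mul_pos Fintype.card_pos Fintype.card_pos) e
  exact ⟨fun k hk => (key k hk).trans (key 1 one_ne_zero).symm, key 1 one_ne_zero⟩

include hψ₁ in
theorem finrank_eq (hu : S.Uniform f ψ₁) :
    finrank ℂ W = (Fintype.card F - 1) * (Fintype.card F * Fintype.card (T →ₗ[F] F) * S.m f ψ₁) +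
      ReeRep.mult (S.RZ f) 0 := by
  classical
  rw [← ReeRep.sum_mult (S.RZ f), ← Function.Bijective.sum_comp
    (Fintype.bijective_iff_injective_and_card _ |>.2
      ⟨AddChar.to_mulShift_inj_of_isPrimitive hψ₁, AddChar.card_eq.symm⟩) fun χ => ReeRep.mult (S.RZ f) χ,
    ← Finset.sum_erase_add _ _ (Finset.mem_univ (0 : F))]
  congr 1
  · rw [Finset.sum_congr rfl fun k hk => show ReeRep.mult (S.RZ f) (ψ₁.mulShift k) =
        Fintype.card F * Fintype.card (T →ₗ[F] F) * S.m f ψ₁ by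
      rw [S.mu_RZ f hψ₁]
      simp [S.mu_central f hu (Finset.ne_of_mem_erase hk), mul_assoc]]
    rw [Finset.sum_const, Finset.card_erase_of_mem (Finset.mem_univ _), Finset.card_univ, smul_eq_mul]
  · rw [AddChar.mulShift_zero]; rfl

include hψ₁ in
theorem mu_fixed (hu : S.Uniform f ψ₁) {d : F} (hd : d ≠ 0) (φ : T →ₗ[F] F) : mu ψ₁ (S.R f) (lf 0 d φ) = S.m f ψ₁ := by
  classical
  have hcst : ∀ φ, mu ψ₁ (S.R f) (lf 0 d φ) = mu ψ₁ (S.R f) (lf 0 d 0) := fun φ => by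
    have := S.mu_shiftD f (ψ₁ := ψ₁) d 0 (d⁻¹ • φ)
    rwa [zero_add, smul_smul, mul_inv_cancel₀ hd, one_smul] at this
  obtain ⟨g, ε, hε, hg⟩ := S.swap
  obtain ⟨ι, hι⟩ : ∃ ι, ι = (LinearMap.inr F F (F × T)) ∘ₗ LinearMap.inl F F T := ⟨_, rfl⟩
  have hιv : ∀ t, ι t = (0, t, 0) := fun t => by rw [hι]; simp
  have key : mu ψ₁ ((S.R f).compAddMonoidHom ι.toAddMonoidHom) (d • LinearMap.id) =
      ReeRep.mult (S.RZ f) (ψ₁.mulShift (d / ε)) := by
    rw [mu]
    have hp : ReeRep.proj ((S.R f).compAddMonoidHom ι.toAddMonoidHom) (ch ψ₁ (d • (LinearMap.id : F →ₗ[F] F))) =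
        f g⁻¹ * ReeRep.proj (S.RZ f) (ψ₁.mulShift (d / ε)) * f g := by
      simp only [ReeRep.proj, mul_smul_comm, smul_mul_assoc, Finset.mul_sum, Finset.sum_mul]
      congr 1
      refine Fintype.sum_bijective (fun t : F => ε * t) (Finite.injective_iff_bijective.1 (mul_right_injective₀ hε)) _ _ fun t => ?_
      congr 1
      · rw [ch_apply, AddChar.mulShift_apply]
        congr 1
        simp
        field_simp
      · show f (S.Y (ι t)) = f g⁻¹ * f (S.Y (ε * t, 0, 0)) * f g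
        rw [hιv, inv_conj f (hg t)]
    have h := congrArg (trace ℂ W) hp
    rw [trace_mul_comm, ← mul_assoc, hom_inv, one_mul, ReeRep.trace_proj, ReeRep.trace_proj] at h
    exact_mod_cast h
  have h2 : ∑ k : F, ∑ φ : T →ₗ[F] F, mu ψ₁ (S.R f) (lf k d φ) =
      Fintype.card F * Fintype.card (T →ₗ[F] F) * S.m f ψ₁ := by
    have h := S.mu_RZ f hψ₁ (d / ε)
    rw [← key, mu_restrict hψ₁] at h
    have hiff : ∀ l : F × F × T →ₗ[F] F, l ∘ₗ ι = d • LinearMap.id ↔ l (0, 1, 0) = d := fun l => by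
      refine ⟨fun h => ?_, fun h => LinearMap.ext_ring ?_⟩
      · have := LinearMap.congr_fun h 1
        simpa [hιv] using this
      · simpa [hιv] using h
    rw [Finset.filter_congr fun l _ => hiff l, S.sum_lf f hψ₁ fun _ x => x = d] at h
    simp only [Finset.sum_ite_eq', Finset.mem_univ, if_true] at h
    rw [h]
    simp [S.mu_central f hu (div_ne_zero hd hε), mul_assoc]
  rw [← Finset.sum_erase_add _ _ (Finset.mem_univ (0 : F)),
    Finset.sum_congr rfl fun k hk => Finset.sum_congr rfl fun φ _ => S.mu_central f hu (Finset.ne_of_mem_erase hk) d φ,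
    Finset.sum_congr rfl fun φ _ => hcst φ] at h2
  simp only [Finset.sum_const, Finset.card_erase_of_mem (Finset.mem_univ (0 : F)), Finset.card_univ,
    smul_eq_mul] at h2
  rw [hcst φ]
  have hq : 1 ≤ Fintype.card F := Fintype.card_pos
  have hT : 0 < Fintype.card (T →ₗ[F] F) := Fintype.card_pos
  obtain ⟨q, hq'⟩ : ∃ q, Fintype.card F = q + 1 := ⟨_, (Nat.sub_add_cancel hq).symm⟩
  rw [hq', Nat.add_sub_cancel] at h2
  exact Nat.eq_of_mul_eq_mul_left hT (by linarith)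

include hψ₁ in
theorem m_ne_zero (hu : S.Uniform f ψ₁) (hne : ∃ t, f (S.Y (t, 0, 0)) ≠ 1) : S.m f ψ₁ ≠ 0 := by
  intro h0
  obtain ⟨t, ht⟩ := hne
  obtain ⟨χ, hχ, b, -, hb⟩ := ReeRep.exists_nontrivial (R := S.RZ f) ⟨t, ht⟩ (fun _ => True) fun _ _ => trivial
  obtain ⟨a, ha⟩ := (Fintype.bijective_iff_injective_and_card _ |>.2
      ⟨AddChar.to_mulShift_inj_of_isPrimitive hψ₁, AddChar.card_eq.symm⟩).2 χ
  refine hχ ?_
  rw [← ha, S.mu_RZ f hψ₁]
  have ha0 : a ≠ 0 := fun e => hb (by rw [← ha, e, AddChar.mulShift_zero, AddChar.one_apply])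
  simp [S.mu_central f hu ha0, h0]

end Sys

end Cfsg.Agent.Heis
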