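/-
Root elements with the commutator relations of a simply laced table, and the maximal abelian subgroup of the
radical attached to a certificate.
-/
import Cfsg.Agent.Lib.Lie.TwBase
import Cfsg.Agent.Lib.MinDegree.Heis.Core

set_option autoImplicit false

namespace Cfsg.Agent.Heis

open Cfsg.Agent.Chev Cfsg.Agent.Chev.Tab

variable (T : Tab) (F G : Type*) [Field F] [Group G]

/-- Root elements of a closed set of roots, with the monomial elements of some simple reflections. -/
structure Grp where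
  S : ℕ → Bool
  x : ℕ → AddChar F G
  J : ℕ → Bool
  w : ℕ → G
  comm : ∀ r s, S r = true → S s = true → r < T.n → s < T.n → s ≠ r → s ≠ T.neg r → ∀ t u,
    x s u * x r t = x r t * x s u * ((cVal T F r s t u).map fun e => x e.1 e.2).prod
  conj : ∀ i s, J i = true → S s = true → i < T.l → s < T.n → ∀ t,
    w i * x s t * (w i)⁻¹ = x (T.ref i s) ((T.eta i s : F) * t)

/-- the root `a + b` and its structure constant, if there is one -/
def sumR (T : Tab) (a b : ℕ) : Option (ℕ × ℤ) :=
  match T.cTerms a b with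
  | [(r, C, 1, 1)] => some (r, C)
  | _ => none

/-- the root groups commute -/
def com (T : Tab) (S : ℕ → Bool) (a b : ℕ) : Bool :=
  S a && S b && Nat.blt a T.n && Nat.blt b T.n &&
    (a == b || (b != T.neg a && (T.cTerms a b).isEmpty))

/-- the commutator is a root element of a root commuting with both -/
def bra (T : Tab) (S : ℕ → Bool) (a b r : ℕ) : Bool :=
  S a && S b && Nat.blt a T.n && Nat.blt b T.n && a != b && b != T.neg a &&
    (match sumR T a b with
      | some (r', C) => r' == r && (C == 1 || C == -1)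
      | none => false) && com T S a r && com T S b r

/-- commute, or bracket into a root of the list -/
def into (T : Tab) (S : ℕ → Bool) (l : List ℕ) (a b : ℕ) : Bool :=
  com T S a b ||
    match sumR T a b with
    | some (r, _) => l.contains r && bra T S a b r
    | none => false

/-- the roots of a set are closed under commutators -/
def clos (T : Tab) (S : ℕ → Bool) : Bool :=
  (List.range T.n).all fun r => !S r || (List.range T.n).all fun s => !S s || (T.cTerms r s).all fun e => S e.1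

variable {T F G}

theorem of_into {T : Tab} {S : ℕ → Bool} {l : List ℕ} {a b : ℕ} (h : into T S l a b = true) :
    com T S a b = true ∨ ∃ r ∈ l, bra T S a b r = true := by
  simp only [into, Bool.or_eq_true] at h
  rcases h with h | h
  · exact Or.inl h
  · split at h
    · simp only [Bool.and_eq_true, List.contains_iff_mem] at h
      exact Or.inr ⟨_, h.1, h.2⟩
    · simp at h

namespace Grp

variable (E : Grp T F G)

/-- The root elements inside a subgroup containing those of a closed set of roots. -/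
noncomputable def restrict (H : Subgroup G) (S J : ℕ → Bool) (hS : ∀ r, S r = true → r < T.n → E.S r = true)
    (hcl : clos T S = true) (hx : ∀ r, S r = true → ∀ t, E.x r t ∈ H)
    (hJ : ∀ i, J i = true → i < T.l → E.J i = true ∧ E.w i ∈ H ∧
      ∀ s, S s = true → s < T.n → S (T.ref i s) = true) : Grp T F H where
  S := S
  x r := if hr : S r = true then
      { toFun := fun t => ⟨E.x r t, hx r hr t⟩
        map_zero_eq_one' := Subtype.ext (AddChar.map_zero_eq_one _)
        map_add_eq_mul' := fun s t => Subtype.ext (AddChar.map_add_eq_mul _ s t) }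
    else 1
  J := J
  w i := open Classical in if h : E.w i ∈ H then ⟨_, h⟩ else 1
  comm r s hr hs hrn hsn h1 h2 t u := by
    refine Subtype.ext ?_
    have hall : ∀ e ∈ cVal T F r s t u, S e.1 = true := by
      intro e he
      simp only [cVal, List.mem_map] at he
      obtain ⟨c, hc, rfl⟩ := he
      simp only [clos, List.all_eq_true, List.mem_range, Bool.or_eq_true, Bool.not_eq_true'] at hcl
      exact (((hcl r hrn).resolve_left (by simp [hr])) s hsn).resolve_left (by simp [hs]) c hc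
    have hp : ∀ L : List (ℕ × F), (∀ e ∈ L, S e.1 = true) →
        ((L.map fun e => ((if hr : S e.1 = true then
          { toFun := fun t => (⟨E.x e.1 t, hx e.1 hr t⟩ : H)
            map_zero_eq_one' := Subtype.ext (AddChar.map_zero_eq_one _)
            map_add_eq_mul' := fun s t => Subtype.ext (AddChar.map_add_eq_mul _ s t) }
          else 1) : AddChar F H) e.2).prod : G) = (L.map fun e => E.x e.1 e.2).prod := by
      intro L hL
      induction L with
      | nil => rfl
      | cons e L ih =>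
        rw [List.map_cons, List.map_cons, List.prod_cons, List.prod_cons, Subgroup.coe_mul,
          ih fun e' he' => hL e' (List.mem_cons_of_mem _ he'), dif_pos (hL e List.mem_cons_self)]
        rfl
    simp only [Subgroup.coe_mul, hp _ hall, dif_pos hr, dif_pos hs]
    exact E.comm r s (hS r hr hrn) (hS s hs hsn) hrn hsn h1 h2 t u
  conj i s hi hs hil hsn t := by
    obtain ⟨hJi, hw, hcl'⟩ := hJ i hi hil
    refine Subtype.ext ?_
    simp only [dif_pos hs, dif_pos (hcl' s hs hsn), dif_pos hw]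
    exact E.conj i s hJi (hS s hs hsn) hil hsn t

theorem restrict_x (H : Subgroup G) (S J : ℕ → Bool) (hS hcl hx hJ) {r : ℕ} (hr : S r = true) (t : F) :
    (((E.restrict H S J hS hcl hx hJ).x r t : H) : G) = E.x r t := by
  simp only [restrict, dif_pos hr]
  rfl

theorem x_inv (r : ℕ) (t : F) : (E.x r t)⁻¹ = E.x r (-t) := (AddChar.map_neg_eq_inv (E.x r) t).symm

theorem commute {a b : ℕ} (h : com T E.S a b = true) (t u : F) : Commute (E.x a t) (E.x b u) := by
  simp only [com, Bool.and_eq_true, Bool.or_eq_true, beq_iff_eq, bne_iff_ne, List.isEmpty_iff, nat_blt] at h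
  obtain ⟨⟨⟨⟨ha, hb⟩, han⟩, hbn⟩, h⟩ := h
  rcases h with rfl | ⟨h2, he⟩
  · rw [Commute, SemiconjBy, ← AddChar.map_add_eq_mul, ← AddChar.map_add_eq_mul, add_comm]
  by_cases hab : a = b
  · subst hab
    rw [Commute, SemiconjBy, ← AddChar.map_add_eq_mul, ← AddChar.map_add_eq_mul, add_comm]
  have := E.comm a b ha hb han hbn (Ne.symm hab) h2 t u
  rw [cVal, he, List.map_nil, List.map_nil, List.prod_nil, mul_one] at this
  exact this.symm

theorem bracket {a b r : ℕ} (h : bra T E.S a b r = true) :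
    ∃ C : F, C ≠ 0 ∧ (∀ t u, E.x a t * E.x b u = E.x b u * E.x a t * E.x r (C * t * u)) ∧
      (∀ t u, E.x a t * E.x b u * (E.x a t)⁻¹ = E.x b u * E.x r (C * t * u)) ∧
      (∀ t u, E.x b u * E.x a t * (E.x b u)⁻¹ = E.x a t * E.x r (-(C * t * u))) := by
  simp only [bra, Bool.and_eq_true, bne_iff_ne, nat_blt] at h
  obtain ⟨⟨⟨⟨⟨⟨⟨⟨ha, hb⟩, han⟩, hbn⟩, hab⟩, h2⟩, hs⟩, har⟩, hbr⟩ := h
  have hc : ∃ C : ℤ, (C = 1 ∨ C = -1) ∧ T.cTerms a b = [(r, C, 1, 1)] := by
    revert hs
    unfold sumR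
    split <;> rename_i e <;> split at e <;> simp_all
  obtain ⟨C, hC, he⟩ := hc
  have hC0 : (C : F) ≠ 0 := by rcases hC with rfl | rfl <;> simp
  have key : ∀ t u, E.x a t * E.x b u = E.x b u * E.x a t * E.x r ((C : F) * t * u) := fun t u => by
    have e := E.comm a b ha hb han hbn (Ne.symm hab) h2 t u
    rw [cVal, he] at e
    simp only [List.map_cons, List.map_nil, List.prod_cons, List.prod_nil, mul_one, pow_one] at e
    have e' : E.x b u * E.x a t = E.x a t * E.x b u * E.x r ((C : F) * -t * u) := e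
    rw [e', mul_assoc, ← AddChar.map_add_eq_mul, show (C : F) * -t * u + (C : F) * t * u = 0 by ring,
      AddChar.map_zero_eq_one, mul_one]
  refine ⟨(C : F), hC0, key, fun t u => ?_, fun t u => ?_⟩
  · rw [mul_inv_eq_iff_eq_mul, key, mul_assoc, (E.commute har t _).eq, ← mul_assoc]
  · rw [mul_inv_eq_iff_eq_mul, mul_assoc, ← (E.commute hbr u _).eq, ← mul_assoc, key, mul_assoc _ (E.x r _),
      ← AddChar.map_add_eq_mul, add_neg_eq_zero.2 rfl, AddChar.map_zero_eq_one, mul_one]

/-- The product of the monomial elements of a word. -/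
noncomputable def nw : List ℕ → G
  | [] => 1
  | i :: L => E.w i * nw L

/-- the word uses allowed reflections on allowed roots -/
def wordOK (T : Tab) (S J : ℕ → Bool) : List ℕ → ℕ → Bool
  | [], s => S s && Nat.blt s T.n
  | i :: L, s => wordOK T S J L s && J i && Nat.blt i T.l && S (T.rw' L s) && Nat.blt (T.rw' L s) T.n

/-- the sign of a word on a root -/
def wSign (T : Tab) : List ℕ → ℕ → ℤ
  | [], _ => 1
  | i :: L, s => T.eta i (T.rw' L s) * wSign T L s

theorem wSign_sq : ∀ (L : List ℕ) (s : ℕ), wSign T L s = 1 ∨ wSign T L s = -1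
  | [], _ => Or.inl rfl
  | i :: L, s => by
    rcases eta_cases T i (T.rw' L s) with h | h <;> rcases wSign_sq L s with h' | h' <;> simp [wSign, h, h']

theorem nw_conj : ∀ {L : List ℕ} {s : ℕ}, wordOK T E.S E.J L s = true → ∀ t,
    E.nw L * E.x s t * (E.nw L)⁻¹ = E.x (T.rw' L s) ((wSign T L s : F) * t)
  | [], s, _, t => by simp [nw, wSign]
  | i :: L, s, h, t => by
    simp only [wordOK, Bool.and_eq_true, nat_blt] at h
    obtain ⟨⟨⟨⟨h1, hJ⟩, hi⟩, hS⟩, hn⟩ := h
    rw [show E.nw (i :: L) = E.w i * E.nw L from rfl,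
      show E.w i * E.nw L * E.x s t * (E.w i * E.nw L)⁻¹ =
        E.w i * (E.nw L * E.x s t * (E.nw L)⁻¹) * (E.w i)⁻¹ by group,
      nw_conj h1, E.conj i _ hJ hS hi hn, Tab.rw'_cons]
    simp [wSign, mul_assoc]

end Grp

/-- The certificate of a radical: the centre, the distinguished root, its opposite partner, the other roots
of the maximal abelian subgroup with their partners towards the centre and the distinguished root, and a
word moving the distinguished root to the centre. -/
structure Cfg where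
  th : ℕ
  r0 : ℕ
  a0 : ℕ
  n : ℕ
  c : ℕ → ℕ
  z : ℕ → ℕ
  u : ℕ → ℕ
  sw : List ℕ

/-- checks on the abelian subgroup and the roots lowering it -/
def Cfg.chk0 (d : Cfg) (T : Tab) (S : ℕ → Bool) : Bool :=
  com T S d.th d.r0 &&
    (List.range d.n).all fun j => com T S d.th (d.c j) && com T S d.r0 (d.c j) &&
      com T S d.th (d.u j) && com T S d.r0 (d.u j) && bra T S (d.u j) (d.c j) d.r0 &&
      (List.range d.n).all fun i => i == j ||
        (com T S (d.c i) (d.c j) && com T S (d.u i) (d.c j) && com T S (d.u i) (d.u j) && d.c i != d.c j)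

/-- checks on the certificate -/
def Cfg.chkY (d : Cfg) (T : Tab) (S J : ℕ → Bool) : Bool :=
  d.chk0 T S && com T S d.th d.a0 && bra T S d.a0 d.r0 d.th &&
    Grp.wordOK T S J d.sw d.r0 && T.rw' d.sw d.r0 == d.th &&
    (List.range d.n).all fun j => com T S d.a0 (d.c j) &&
      com T S d.th (d.z j) && com T S d.r0 (d.z j) && bra T S (d.z j) (d.c j) d.th &&
      (List.range d.n).all fun i => i == j || com T S (d.z i) (d.c j)

namespace Cfg

variable (d : Cfg) (E : Grp T F G)

/-- What the check on the abelian subgroup gives. -/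
structure Good0 (d : Cfg) (E : Grp T F G) : Prop where
  thr0 : com T E.S d.th d.r0 = true
  thc : ∀ j : Fin d.n, com T E.S d.th (d.c j) = true
  r0c : ∀ j : Fin d.n, com T E.S d.r0 (d.c j) = true
  thu : ∀ j : Fin d.n, com T E.S d.th (d.u j) = true
  r0u : ∀ j : Fin d.n, com T E.S d.r0 (d.u j) = true
  uc : ∀ j : Fin d.n, bra T E.S (d.u j) (d.c j) d.r0 = true
  cc : ∀ i j : Fin d.n, i ≠ j → com T E.S (d.c i) (d.c j) = true
  uc' : ∀ i j : Fin d.n, i ≠ j → com T E.S (d.u i) (d.c j) = true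
  uu : ∀ i j : Fin d.n, i ≠ j → com T E.S (d.u i) (d.u j) = true
  c_inj : ∀ i j : Fin d.n, i ≠ j → d.c i ≠ d.c j

/-- What the check gives. -/
structure Good (d : Cfg) (E : Grp T F G) : Prop extends Good0 d E where
  tha : com T E.S d.th d.a0 = true
  ar0 : bra T E.S d.a0 d.r0 d.th = true
  swOK : Grp.wordOK T E.S E.J d.sw d.r0 = true
  sw_eq : T.rw' d.sw d.r0 = d.th
  ac : ∀ j : Fin d.n, com T E.S d.a0 (d.c j) = true
  thz : ∀ j : Fin d.n, com T E.S d.th (d.z j) = true
  r0z : ∀ j : Fin d.n, com T E.S d.r0 (d.z j) = true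
  zc : ∀ j : Fin d.n, bra T E.S (d.z j) (d.c j) d.th = true
  zc' : ∀ i j : Fin d.n, i ≠ j → com T E.S (d.z i) (d.c j) = true

theorem good0_of_chk {S : ℕ → Bool} (hS : E.S = S) (h : d.chk0 T S = true) : Good0 d E := by
  subst hS
  simp only [chk0, Bool.and_eq_true, List.all_eq_true, List.mem_range, beq_iff_eq, Bool.or_eq_true,
    bne_iff_ne] at h
  obtain ⟨h1, h6⟩ := h
  have hne : ∀ i j : Fin d.n, i ≠ j → ¬ (i : ℕ) = (j : ℕ) := fun i j hij e => hij (Fin.ext e)
  constructor
  all_goals first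
    | assumption
    | (intro j; have := h6 j j.2; tauto)
    | (intro i j hij; have := (h6 j j.2).2 i i.2; have := hne i j hij; tauto)

theorem good_of_chk {S J : ℕ → Bool} (hS : E.S = S) (hJ : E.J = J) (h : d.chkY T S J = true) :
    Good d E := by
  subst hS hJ
  simp only [chkY, Bool.and_eq_true, List.all_eq_true, List.mem_range, beq_iff_eq, Bool.or_eq_true] at h
  obtain ⟨⟨⟨⟨⟨h0, h2⟩, h3⟩, h4⟩, h5⟩, h6⟩ := h
  have hne : ∀ i j : Fin d.n, i ≠ j → ¬ (i : ℕ) = (j : ℕ) := fun i j hij e => hij (Fin.ext e)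
  refine { toGood0 := good0_of_chk d E rfl h0, tha := ?_, ar0 := ?_, swOK := ?_, sw_eq := ?_, ac := ?_, thz := ?_, r0z := ?_, zc := ?_, zc' := ?_ }
  all_goals first
    | assumption
    | (intro j; have := h6 j j.2; tauto)
    | (intro i j hij; have := (h6 j j.2).2 i i.2; have := hne i j hij; tauto)

variable {d E} (hd : Good0 d E)

/-- the roots of the Lagrangian -/
noncomputable def X : AddChar (Fin d.n → F) G :=
  piChar (fun j : Fin d.n => E.x (d.c j)) fun i j hij s t => E.commute (hd.cc i j hij) s t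

theorem X_single (j : Fin d.n) (t : F) : X hd (Pi.single j t) = E.x (d.c j) t := piChar_single _ _ j t

include hd in
theorem commute_X {a : G} (h : ∀ (j : Fin d.n) t, Commute a (E.x (d.c j) t)) (v : Fin d.n → F) :
    Commute a (X hd v) := by
  rw [← Finset.univ_sum_single v]
  refine Finset.sum_induction _ (fun w => Commute a (X hd w)) (fun u w hu hw => ?_)
    (by rw [AddChar.map_zero_eq_one]; exact Commute.one_right a) fun j _ => by rw [X_single]; exact h j _
  rw [AddChar.map_add_eq_mul]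
  exact hu.mul_right hw

/-- the maximal abelian subgroup -/
noncomputable def Y : AddChar (F × F × (Fin d.n → F)) G where
  toFun v := E.x d.th v.1 * (E.x d.r0 v.2.1 * X hd v.2.2)
  map_zero_eq_one' := by simp
  map_add_eq_mul' v w := by
    simp only [Prod.fst_add, Prod.snd_add, AddChar.map_add_eq_mul]
    have h1 : Commute (E.x d.r0 v.2.1 * X hd v.2.2) (E.x d.th w.1) :=
      (Commute.mul_right (E.commute hd.thr0 w.1 v.2.1)
        (commute_X hd (fun j t => E.commute (hd.thc j) _ t) _)).symm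
    have h2 : Commute (X hd v.2.2) (E.x d.r0 w.2.1) :=
      (commute_X hd (fun j t => E.commute (hd.r0c j) _ t) _).symm
    rw [Commute.mul_mul_mul_comm h1, Commute.mul_mul_mul_comm h2]

theorem Y_apply (v : F × F × (Fin d.n → F)) : Y hd v = E.x d.th v.1 * (E.x d.r0 v.2.1 * X hd v.2.2) := rfl

theorem Y_th (t : F) : Y hd (t, 0, 0) = E.x d.th t := by simp [Y_apply]

theorem Y_r0 (t : F) : Y hd (0, t, 0) = E.x d.r0 t := by simp [Y_apply]

theorem Y_c (j : Fin d.n) (t : F) : Y hd (0, 0, Pi.single j t) = E.x (d.c j) t := by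
  simp [Y_apply, X_single]

theorem Y_induction {P : F × F × (Fin d.n → F) → Prop} (hadd : ∀ u v, P u → P v → P (u + v))
    (h0 : P 0) (h1 : ∀ t, P (t, 0, 0)) (h2 : ∀ t, P (0, t, 0)) (h3 : ∀ j t, P (0, 0, Pi.single j t))
    (v : F × F × (Fin d.n → F)) : P v := by
  rw [show v = (v.1, 0, 0) + ((0, v.2.1, 0) + (0, 0, v.2.2)) by ext <;> simp]
  refine hadd _ _ (h1 _) (hadd _ _ (h2 _) ?_)
  rw [← Finset.univ_sum_single v.2.2]
  exact Finset.sum_induction _ (fun w => P (0, 0, w)) (fun u w hu hw => by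
    have := hadd _ _ hu hw
    simpa using this) h0 fun j _ => h3 j _

theorem conj_Y (g : G) (A : F × F × (Fin d.n → F) →ₗ[F] F × F × (Fin d.n → F))
    (h1 : ∀ t, g * E.x d.th t * g⁻¹ = Y hd (A (t, 0, 0))) (h2 : ∀ t, g * E.x d.r0 t * g⁻¹ = Y hd (A (0, t, 0)))
    (h3 : ∀ (j : Fin d.n) t, g * E.x (d.c j) t * g⁻¹ = Y hd (A (0, 0, Pi.single j t))) (v : F × F × (Fin d.n → F)) :
    g * Y hd v * g⁻¹ = Y hd (A v) := by
  refine Y_induction (P := fun v => g * Y hd v * g⁻¹ = Y hd (A v)) (fun u v hu hv => ?_) (by simp [Y_apply])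
    (fun t => by rw [Y_th]; exact h1 t)
    (fun t => by rw [Y_r0]; exact h2 t) (fun j t => by rw [Y_c]; exact h3 j t) v
  rw [LinearMap.map_add, AddChar.map_add_eq_mul, AddChar.map_add_eq_mul, ← hu, ← hv]
  group

theorem conj_of_commute {g a : G} (h : Commute g a) : g * a * g⁻¹ = a := by rw [h.eq, mul_inv_cancel_right]

theorem realZ_mem (hG : Good d E) (H : Subgroup G) (φ : (F × (Fin d.n → F)) →ₗ[F] F)
    (ha : φ (1, 0) = 0 ∨ ∀ s, E.x d.a0 s ∈ H)
    (hz : ∀ j : Fin d.n, φ (0, Pi.single j 1) = 0 ∨ ∀ s, E.x (d.z j) s ∈ H) :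
    ∃ g ∈ H, ∀ v, g * Y hG.toGood0 v * g⁻¹ = Y hG.toGood0 (v.1 + φ v.2, v.2) := by
  let P : ((F × (Fin d.n → F)) →ₗ[F] F) → Prop :=
    fun φ => ∃ g ∈ H, ∀ v, g * Y hG.toGood0 v * g⁻¹ = Y hG.toGood0 (v.1 + φ v.2, v.2)
  have hadd : ∀ φ φ', P φ → P φ' → P (φ + φ') := by
    rintro φ φ' ⟨g, hgH, hg⟩ ⟨g', hgH', hg'⟩
    refine ⟨g * g', mul_mem hgH hgH', fun v => ?_⟩
    rw [show g * g' * Y hG.toGood0 v * (g * g')⁻¹ = g * (g' * Y hG.toGood0 v * g'⁻¹) * g⁻¹ by group, hg', hg]
    simp only [LinearMap.add_apply]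
    congr 2
    ring
  have h0 : P 0 := ⟨1, one_mem H, fun v => by simp⟩
  let A : ((F × (Fin d.n → F)) →ₗ[F] F) → (F × F × (Fin d.n → F) →ₗ[F] F × F × (Fin d.n → F)) := fun φ =>
    (LinearMap.fst F F _ + φ ∘ₗ LinearMap.snd F F _).prod (LinearMap.snd F F _)
  have hd' : ∀ s : F, s = 0 ∨ (∀ t, E.x d.a0 t ∈ H) → P (s • LinearMap.fst F F (Fin d.n → F)) := fun s hs => by
    rcases hs with rfl | hs
    · simpa using h0
    obtain ⟨C, hC, -, h, -⟩ := E.bracket hG.ar0
    refine ⟨E.x d.a0 (s / C), hs _, fun v => conj_Y hG.toGood0 _ (A (s • LinearMap.fst F F (Fin d.n → F)))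
      (fun t => ?_) (fun t => ?_) (fun j t => ?_) v⟩
    · rw [conj_of_commute (E.commute hG.tha t _).symm]; simp [A, Y_th]
    · rw [h, show C * (s / C) * t = s * t by field_simp, ← (E.commute hG.thr0 (s * t) t).eq]
      simp [A, Y_apply]
    · rw [conj_of_commute (E.commute (hG.ac j) _ t)]; simp [A, Y_c]
  have hc' : ∀ (j : Fin d.n) (s : F), s = 0 ∨ (∀ t, E.x (d.z j) t ∈ H) →
      P (s • LinearMap.proj j ∘ₗ LinearMap.snd F F (Fin d.n → F)) := fun j s hs => by
    rcases hs with rfl | hs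
    · simpa using h0
    obtain ⟨C, hC, -, h, -⟩ := E.bracket (hG.zc j)
    refine ⟨E.x (d.z j) (s / C), hs _,
      fun v => conj_Y hG.toGood0 _ (A (s • LinearMap.proj j ∘ₗ LinearMap.snd F F (Fin d.n → F)))
      (fun t => ?_) (fun t => ?_) (fun i t => ?_) v⟩
    · rw [conj_of_commute (E.commute (hG.thz j) t _).symm]; simp [A, Y_th]
    · rw [conj_of_commute (E.commute (hG.r0z j) t _).symm]; simp [A, Y_r0]
    · rcases eq_or_ne j i with rfl | hij
      · rw [h, show C * (s / C) * t = s * t by field_simp, ← (E.commute (hG.thc j) (s * t) t).eq]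
        simp [A, Y_apply, X_single]
      · rw [conj_of_commute (E.commute (hG.zc' j i hij) _ t)]; simp [A, Y_c, hij.symm]
  show P φ
  rw [show φ = φ (1, 0) • LinearMap.fst F F (Fin d.n → F) +
      ∑ j, φ (0, Pi.single j 1) • LinearMap.proj j ∘ₗ LinearMap.snd F F (Fin d.n → F) by
    ext <;> simp [Pi.single_apply]]
  exact hadd _ _ (hd' _ ha) (Finset.sum_induction _ P hadd h0 fun j _ => hc' j _ (hz j))

theorem realZ (hG : Good d E) (φ : (F × (Fin d.n → F)) →ₗ[F] F) :
    ∃ g : G, ∀ v, g * Y hG.toGood0 v * g⁻¹ = Y hG.toGood0 (v.1 + φ v.2, v.2) := by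
  obtain ⟨g, -, hg⟩ := realZ_mem hG ⊤ φ (Or.inr fun _ => Subgroup.mem_top _) fun _ => Or.inr fun _ => Subgroup.mem_top _
  exact ⟨g, hg⟩

/-- a product of root elements lowering the Lagrangian onto the distinguished root -/
noncomputable def U : AddChar (Fin d.n → F) G :=
  piChar (fun j : Fin d.n => E.x (d.u j)) fun i j hij s t => E.commute (hd.uu i j hij) s t

theorem U_single (j : Fin d.n) (t : F) : U hd (Pi.single j t) = E.x (d.u j) t := piChar_single _ _ j t

theorem exists_coef : ∃ C : Fin d.n → F, (∀ j, C j ≠ 0) ∧ ∀ s v, U hd s * Y hd v * (U hd s)⁻¹ =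
    Y hd (v.1, v.2.1 + ∑ j, C j * s j * v.2.2 j, v.2.2) := by
  choose C hC _h h _h' using fun j => E.bracket (hd.uc j)
  refine ⟨C, hC, fun s => ?_⟩
  rw [← Finset.univ_sum_single s]
  refine Finset.sum_induction (fun j => Pi.single j (s j)) (fun s : Fin d.n → F => ∀ v,
    U hd s * Y hd v * (U hd s)⁻¹ = Y hd (v.1, v.2.1 + ∑ j, C j * s j * v.2.2 j, v.2.2)) ?_ ?_ ?_
  · intro a b ha hb v
    rw [AddChar.map_add_eq_mul, show U hd a * U hd b * Y hd v * (U hd a * U hd b)⁻¹ =
      U hd a * (U hd b * Y hd v * (U hd b)⁻¹) * (U hd a)⁻¹ by group, hb, ha]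
    congr 3
    simp only [Pi.add_apply, mul_add, add_mul, Finset.sum_add_distrib]
    ring
  · intro v; simp
  intro j _
  let A : F × F × (Fin d.n → F) →ₗ[F] F × F × (Fin d.n → F) :=
    (LinearMap.fst F F _).prod (((LinearMap.fst F F _ ∘ₗ LinearMap.snd F F _) + (C j * s j) •
      (LinearMap.proj j ∘ₗ LinearMap.snd F F _ ∘ₗ LinearMap.snd F F _)).prod
        (LinearMap.snd F F _ ∘ₗ LinearMap.snd F F _))
  have hA : ∀ v, A v = (v.1, v.2.1 + ∑ i, C i * (Pi.single j (s j) : Fin d.n → F) i * v.2.2 i, v.2.2) := fun v => by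
    rw [Finset.sum_eq_single j (fun i _ hi => by simp [hi]) (by simp)]
    simp [A]
  intro v
  rw [← hA v, U_single]
  refine conj_Y hd _ A (fun t => ?_) (fun t => ?_) (fun i t => ?_) v
  · rw [conj_of_commute (E.commute (hd.thu j) t _).symm]; simp [A, Y_th]
  · rw [conj_of_commute (E.commute (hd.r0u j) t _).symm]; simp [A, Y_r0]
  · rcases eq_or_ne j i with rfl | hij
    · rw [h, ← (E.commute (hd.r0c j) _ t).eq]
      simp [A, Y_apply, X_single]
    · rw [conj_of_commute (E.commute (hd.uc' j i hij) _ t)]; simp [A, Y_c, hij.symm]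

theorem realD (φ : (Fin d.n → F) →ₗ[F] F) :
    ∃ g : G, ∀ v, g * Y hd v * g⁻¹ = Y hd (v.1, v.2.1 + φ v.2.2, v.2.2) := by
  obtain ⟨C, hC, h⟩ := exists_coef hd
  refine ⟨U hd fun j => φ (Pi.single j 1) / C j, fun v => ?_⟩
  rw [h]
  have hφ : φ v.2.2 = ∑ j, C j * (φ (Pi.single j 1) / C j) * v.2.2 j := by
    refine (congrArg (fun w : Fin d.n → F => φ w) (Finset.univ_sum_single v.2.2).symm).trans ?_
    rw [map_sum φ]
    refine Finset.sum_congr rfl fun j _ => ?_
    rw [mul_div_cancel₀ _ (hC j), show (Pi.single j (v.2.2 j) : Fin d.n → F) = v.2.2 j • Pi.single j 1 by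
      rw [← Pi.single_smul, smul_eq_mul, mul_one], map_smul, smul_eq_mul, mul_comm]
  rw [hφ]

/-- Elements scaling the centre and normalising the root groups of the abelian subgroup. -/
def Scal (d : Cfg) (E : Grp T F G) : Prop :=
  ∀ k : F, k ≠ 0 → ∃ g : G, (∀ t, g * E.x d.th t * g⁻¹ = E.x d.th (k * t)) ∧
    (∃ c : F, c ≠ 0 ∧ ∀ t, g * E.x d.r0 t * g⁻¹ = E.x d.r0 (c * t)) ∧
    ∀ j : Fin d.n, ∃ c : F, c ≠ 0 ∧ ∀ t, g * E.x (d.c j) t * g⁻¹ = E.x (d.c j) (c * t)

/-- The data of the abstract core. -/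
noncomputable def sys (hG : Good d E) : Sys F (Fin d.n → F) G where
  Y := Y hG.toGood0
  shiftZ := realZ hG
  shiftD := realD hG.toGood0
  swap := by
    refine ⟨E.nw d.sw, (Grp.wSign T d.sw d.r0 : F), ?_, fun t => ?_⟩
    · rcases Grp.wSign_sq (T := T) d.sw d.r0 with h | h <;> simp [h]
    · rw [Y_r0, Y_th, E.nw_conj hG.swOK, hG.sw_eq]

theorem scales (hG : Good d E) (hsc : Scal d E) : (sys hG).Scales := fun k hk => by
  obtain ⟨g, h1, ⟨c0, hc0, h2⟩, h3⟩ := hsc k hk
  choose c hc h3 using h3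
  let A : (F × (Fin d.n → F)) ≃ₗ[F] (F × (Fin d.n → F)) :=
    LinearEquiv.prodCongr (LinearEquiv.smulOfUnit (Units.mk0 c0 hc0))
      (LinearEquiv.piCongrRight fun j => LinearEquiv.smulOfUnit (Units.mk0 (c j) (hc j)))
  refine ⟨g, A, conj_Y hG.toGood0 g ((k • LinearMap.id).prodMap A.toLinearMap) (fun t => ?_) (fun t => ?_) fun j t => ?_⟩
  · rw [h1]; simp [A, Y_th, Prod.zero_eq_mk]
  · rw [h2]
    simp [A, LinearEquiv.piCongrRight_apply]
    rw [← Y_r0 hG.toGood0]
    congr 3
  · rw [h3 j, ← Y_c hG.toGood0]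
    congr 1
    refine Prod.ext (by simp) (Prod.ext (by simp [A]) (funext fun i => ?_))
    by_cases hij : i = j
    · subst hij; simp [A]; rfl
    · simp [A, hij]

end Cfg

end Cfsg.Agent.Heis
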