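/-
The stabiliser of a one-dimensional eigenspace of the maximal abelian subgroup.
-/
import Cfsg.Agent.Lib.MinDegree.Heis.Root

set_option autoImplicit false

namespace Cfsg.Agent.Heis

open LinearMap Module Cfsg.Agent.Chev Cfsg.Agent.Chev.Tab

variable {T : Tab} {F G W : Type*} [Field F] [Group G] [AddCommGroup W] [Module ℂ W]
variable (E : Grp T F G) (f : G →* Module.End ℂ W)

/-- the root group fixes the vector -/
def Fixes (v : W) (r : ℕ) : Prop := ∀ t, f (E.x r t) v = v

/-- the root group multiplies the vector by scalars -/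
def Scales (v : W) (r : ℕ) : Prop := ∀ t, ∃ c : ℂ, f (E.x r t) v = c • v

variable {E f}

theorem Fixes.scales {v : W} {r : ℕ} (h : Fixes E f v r) : Scales E f v r := fun t => ⟨1, by rw [h, one_smul]⟩

theorem fixes_mul {v : W} {g h : G} (hg : f g v = v) (hh : f h v = v) : f (g * h) v = v := by
  rw [map_mul, Module.End.mul_apply, hh, hg]

theorem inv_fix {v : W} {g : G} (hg : f g v = v) : f g⁻¹ v = v := by
  conv_lhs => rw [← hg]
  rw [← Module.End.mul_apply, ← map_mul, inv_mul_cancel, map_one, Module.End.one_apply]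

theorem fixes_of_bracket {v : W} {a b r : ℕ} (h : bra T E.S a b r = true) (ha : Scales E f v a)
    (hb : Scales E f v b) : Fixes E f v r := by
  intro t
  obtain ⟨C, hC, hcomm, -, -⟩ := E.bracket h
  obtain ⟨c, hc⟩ := ha (t / C)
  obtain ⟨c', hc'⟩ := hb 1
  have e := congrArg (fun g => f g v) (hcomm (t / C) 1)
  simp only [map_mul, Module.End.mul_apply] at e
  rw [show C * (t / C) * 1 = t by field_simp, hc', map_smul, hc, smul_smul, mul_comm c' c] at e
  have e2 : f (E.x b 1) (f (E.x a (t / C)) (f (E.x r t) v)) = f (E.x b 1) (f (E.x a (t / C)) v) := by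
    rw [← e, hc, map_smul, hc', smul_smul]
  have hinj : ∀ g : G, Function.Injective (f g) := fun g x y hxy => by
    have := congrArg (f g⁻¹) hxy
    simpa only [← Module.End.mul_apply, ← map_mul, inv_mul_cancel, map_one, Module.End.one_apply] using this
  exact hinj _ (hinj _ e2)

/-- A step derives that a root group multiplies the vector by scalars, or that it fixes it. -/
def stepOK (T : Tab) (S : ℕ → Bool) (ys fx ln : List ℕ) : ℕ × Option (ℕ × ℕ) → Bool
  | (a, none) => ys.all fun p => into T S fx a p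
  | (a, some (x, y)) => (fx ++ ln).contains x && (fx ++ ln).contains y && bra T S x y a

/-- the roots fixing the vector after the steps -/
def run (T : Tab) (S : ℕ → Bool) (ys : List ℕ) :
    List (ℕ × Option (ℕ × ℕ)) → List ℕ → List ℕ → Option (List ℕ)
  | [], fx, _ => some fx
  | (a, o) :: L, fx, ln =>
    bif stepOK T S ys fx ln (a, o) then
      match o with
      | none => run T S ys L fx (a :: ln)
      | some _ => run T S ys L (a :: fx) ln
    else none

variable [Fintype F] [FiniteDimensional ℂ W] {ψ₁ : AddChar F ℂ} {d : Cfg}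
variable (hd : Cfg.Good0 d E) [Fintype (F × F × (Fin d.n → F))]

/-- the roots of the maximal abelian subgroup -/
def Cfg.ys (d : Cfg) : List ℕ := d.th :: d.r0 :: (List.range d.n).map d.c

variable {l : F × F × (Fin d.n → F) →ₗ[F] F} {v : W}

variable (h1 : mu ψ₁ ((f.compAddChar (Cfg.Y hd))) l = 1) (hv0 : v ≠ 0)
  (hv : v ∈ range (ReeRep.proj (f.compAddChar (Cfg.Y hd)) (ch ψ₁ l)))

include h1 hv0 hv in
theorem scales_of_into {fx : List ℕ} (hfx : ∀ r ∈ fx, Fixes E f v r) {a : ℕ}
    (ha : ∀ p ∈ d.ys, into T E.S fx a p = true) : Scales E f v a := by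
  intro s
  have hY : ∀ w, f (Cfg.Y hd w) v = ψ₁ (l w) • v := eig_apply hv
  have hgen : ∀ p ∈ d.ys, ∀ t, f (E.x a (-s) * E.x p t * (E.x a (-s))⁻¹) v = f (E.x p t) v := by
    intro p hp t
    have := ha p hp
    rcases of_into this with h | ⟨r, hr, h⟩
    · rw [Cfg.conj_of_commute (E.commute h _ t)]
    · obtain ⟨C, hC, -, h', -⟩ := E.bracket h
      rw [h', map_mul, Module.End.mul_apply, hfx r hr]
  have key : ∀ w, f (E.x a (-s) * Cfg.Y hd w * (E.x a (-s))⁻¹) v = ψ₁ (l w) • v := by
    intro w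
    refine Cfg.Y_induction (P := fun w => f (E.x a (-s) * Cfg.Y hd w * (E.x a (-s))⁻¹) v = ψ₁ (l w) • v)
      (fun u u' hu hu' => ?_) ?_ (fun t => ?_) (fun t => ?_) (fun j t => ?_) w
    · have e : E.x a (-s) * Cfg.Y hd (u + u') * (E.x a (-s))⁻¹ =
          (E.x a (-s) * Cfg.Y hd u * (E.x a (-s))⁻¹) * (E.x a (-s) * Cfg.Y hd u' * (E.x a (-s))⁻¹) := by
        rw [AddChar.map_add_eq_mul]; group
      rw [e, map_mul, Module.End.mul_apply, hu', map_smul, hu, smul_smul, ← AddChar.map_add_eq_mul, LinearMap.map_add,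
        add_comm]
    · simp
    · rw [Cfg.Y_th, hgen _ (by simp [Cfg.ys]), ← Cfg.Y_th hd, hY]
    · rw [Cfg.Y_r0, hgen _ (by simp [Cfg.ys]), ← Cfg.Y_r0 hd, hY]
    · rw [Cfg.Y_c, hgen _ (by simp only [Cfg.ys, List.mem_cons, List.mem_map, List.mem_range]; exact Or.inr (Or.inr ⟨j, j.2, rfl⟩)), ← Cfg.Y_c hd, hY]
  refine exists_smul_of_mu_one h1 hv hv0 ((mem_range_proj _ _).2 fun w => ?_)
  show f (Cfg.Y hd w) (f (E.x a s) v) = ψ₁ (l w) • f (E.x a s) v
  rw [← Module.End.mul_apply, ← map_mul,
    show Cfg.Y hd w * E.x a s = E.x a s * (E.x a (-s) * Cfg.Y hd w * (E.x a (-s))⁻¹) by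
      rw [← Grp.x_inv]; group,
    map_mul, Module.End.mul_apply, key, map_smul]

include h1 hv0 hv in
theorem fixes_of_run : ∀ (L : List (ℕ × Option (ℕ × ℕ))) (fx ln res : List ℕ),
    run T E.S d.ys L fx ln = some res → (∀ r ∈ fx, Fixes E f v r) → (∀ r ∈ ln, Scales E f v r) →
      ∀ r ∈ res, Fixes E f v r
  | [], fx, ln, res, h, hf, _ => by
    obtain rfl : fx = res := Option.some.inj h
    exact hf
  | (a, o) :: L, fx, ln, res, h, hf, hl => by
    simp only [run] at h
    rcases hs : stepOK T E.S d.ys fx ln (a, o) with _ | _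
    · simp [hs] at h
    rw [hs, cond_true] at h
    rcases o with _ | ⟨x, y⟩
    · simp only [stepOK, List.all_eq_true] at hs
      refine fixes_of_run L fx (a :: ln) res h hf (List.forall_mem_cons.2 ⟨?_, hl⟩)
      exact scales_of_into hd h1 hv0 hv hf hs
    · simp only [stepOK, Bool.and_eq_true, List.contains_iff_mem, List.mem_append] at hs
      refine fixes_of_run L (a :: fx) ln res h (List.forall_mem_cons.2 ⟨?_, hf⟩) hl
      exact fixes_of_bracket hs.2 (hs.1.1.elim (fun h => (hf x h).scales) (hl x))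
        (hs.1.2.elim (fun h => (hf y h).scales) (hl y))

include h1 hv0 hv in
/-- With only one root group of the abelian subgroup acting nontrivially. -/
theorem fixes_of_cert {e : ℕ} (hv' : ∀ p ∈ d.ys, p ≠ e → Fixes E f v p) {L : List (ℕ × Option (ℕ × ℕ))}
    {res : List ℕ} (hL : run T E.S d.ys L (d.ys.filter (· != e)) [e] = some res) (he : Scales E f v e) :
    ∀ r ∈ res, Fixes E f v r :=
  fixes_of_run hd h1 hv0 hv L _ _ res hL (fun r hr => by
    simp only [List.mem_filter, bne_iff_ne] at hr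
    exact hv' r hr.1 hr.2) (by simpa using he)

end Cfsg.Agent.Heis
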