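/-
The action of the radical modulo its centre on the fixed space of the centre.
-/
import Cfsg.Agent.Lib.MinDegree.Heis.Line

set_option autoImplicit false

namespace Cfsg.Agent.Heis

open LinearMap Module Cfsg.Agent.Chev Cfsg.Agent.Chev.Tab

/-! ### Restriction to the image of a commuting projection -/

section rest

variable {G W : Type*} [Group G] [AddCommGroup W] [Module ℂ W] (f : G →* Module.End ℂ W) (P : Module.End ℂ W)

/-- the elements commuting with an operator -/
def HP : Subgroup G where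
  carrier := {g | Commute (f g) P}
  one_mem' := by simp [Commute.one_left]
  mul_mem' {a b} ha hb := by
    show Commute (f (a * b)) P
    rw [map_mul]; exact Commute.mul_left ha hb
  inv_mem' {a} ha := by
    show Commute (f a⁻¹) P
    have h1 : f a⁻¹ * f a = 1 := by rw [← map_mul, inv_mul_cancel, map_one]
    have h2 : f a * f a⁻¹ = 1 := by rw [← map_mul, mul_inv_cancel, map_one]
    have h : f a * P = P * f a := ha
    calc f a⁻¹ * P = f a⁻¹ * (P * f a) * f a⁻¹ := by rw [mul_assoc, mul_assoc, h2, mul_one]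
      _ = P * f a⁻¹ := by rw [← h, ← mul_assoc, h1, one_mul]

theorem mem_HP {g : G} : g ∈ HP f P ↔ Commute (f g) P := Iff.rfl

theorem HP_mapsTo (g : HP f P) {x : W} (hx : x ∈ range P) : f g x ∈ range P := by
  obtain ⟨y, rfl⟩ := hx
  exact ⟨f g y, by
    have h : f (g : G) * P = P * f (g : G) := g.2
    rw [← Module.End.mul_apply, ← h]; rfl⟩

/-- the action on the image -/
noncomputable def onRange : HP f P →* Module.End ℂ (range P) where
  toFun g := (f g).restrict fun _ hx => HP_mapsTo f P g hx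
  map_one' := LinearMap.ext fun x => Subtype.ext (by simp)
  map_mul' g h := LinearMap.ext fun x => Subtype.ext (by
    simp [Subgroup.coe_mul, map_mul])

theorem onRange_val (g : HP f P) (x : range P) : ((onRange f P g x : range P) : W) = f g x := rfl

theorem mem_HP_proj {V : Type*} [AddCommGroup V] [Fintype V] {R : AddChar V (Module.End ℂ W)} {g : G}
    (h : ∀ v, Commute (f g) (R v)) (χ : AddChar V ℂ) : g ∈ HP f (ReeRep.proj R χ) :=
  ((Finset.univ : Finset V).sum_induction _ (Commute (f g)) (fun _ _ => Commute.add_right) (Commute.zero_right _)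
    fun v _ => Commute.smul_right (h v) _).smul_right _

end rest

variable {T : Tab} {F G W : Type*} [Field F] [Group G] [AddCommGroup W] [Module ℂ W]
variable {E : Grp T F G}

/-- The roots of the radical modulo its centre, with the positions of those of the maximal abelian subgroup
and a word carrying the distinguished root to each. -/
structure QCfg where
  qs : List ℕ
  k0 : ℕ
  kc : ℕ → ℕ
  word : ℕ → List ℕ

namespace QCfg

variable (Q : QCfg)

/-- the root at a position -/
def q (k : ℕ) : ℕ := Q.qs.getD k 0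

/-- number of positions -/
abbrev m : ℕ := Q.qs.length

/-- the permutation of positions by a word -/
def sig (T : Tab) (i k : ℕ) : ℕ := Q.qs.idxOf (T.rw' (Q.word i) (Q.q k))

/-- the roots carried above a position -/
def above (T : Tab) (i : ℕ) : List ℕ := ((List.range Q.m).filter fun k => Nat.blt (Q.sig T i k) i).map Q.q

/-- checks -/
def chk (T : Tab) (S J : ℕ → Bool) (d : Cfg) (fx : List ℕ) : Bool :=
  Nat.blt Q.k0 Q.m && Q.q Q.k0 == d.r0 && fx.contains d.th &&
    ((List.range d.n).all fun j => Nat.blt (Q.kc j) Q.m && Q.q (Q.kc j) == d.c j) &&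
    (List.range Q.m).all fun i =>
      com T S d.th (Q.q i) && (List.range Q.m).all (fun k => i == k || into T S [d.th] (Q.q i) (Q.q k)) &&
      Grp.wordOK T S J (Q.word i) d.th && T.rw' (Q.word i) d.th == d.th && Grp.wSign T (Q.word i) d.th == 1 &&
      Q.sig T i Q.k0 == i &&
      ((List.range Q.m).all fun k => Grp.wordOK T S J (Q.word i) (Q.q k) &&
        Nat.blt (Q.sig T i k) Q.m && Q.q (Q.sig T i k) == T.rw' (Q.word i) (Q.q k) &&
        Q.qs.idxOf (T.rw' (Q.word i).reverse (Q.q (Q.sig T i k))) == k) &&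
      ((Q.above T i).all fun p => fx.contains p &&
        (List.range d.n).all fun j => Nat.blt (Q.sig T i (Q.kc j)) i ||
          into T S (d.th :: Q.above T i) (d.u j) p) &&
      ((List.range d.n).all fun j => Nat.blt (Q.sig T i (Q.kc j)) i || com T S (d.u j) d.th)

/-- What the checks give. -/
structure Good (Q : QCfg) (d : Cfg) (E : Grp T F G) (fx : List ℕ) : Prop where
  k0_lt : Q.k0 < Q.m
  q_k0 : Q.q Q.k0 = d.r0
  th_fx : d.th ∈ fx
  kc_lt : ∀ j : Fin d.n, Q.kc j < Q.m
  q_kc : ∀ j : Fin d.n, Q.q (Q.kc j) = d.c j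
  thq : ∀ i : Fin Q.m, com T E.S d.th (Q.q i) = true
  qq : ∀ i k : Fin Q.m, i ≠ k → into T E.S [d.th] (Q.q i) (Q.q k) = true
  thw : ∀ i : Fin Q.m, Grp.wordOK T E.S E.J (Q.word i) d.th = true
  thw_eq : ∀ i : Fin Q.m, T.rw' (Q.word i) d.th = d.th
  thw_sign : ∀ i : Fin Q.m, Grp.wSign T (Q.word i) d.th = 1
  sig_k0 : ∀ i : Fin Q.m, Q.sig T i Q.k0 = i
  qw : ∀ i k : Fin Q.m, Grp.wordOK T E.S E.J (Q.word i) (Q.q k) = true
  sig_lt : ∀ i k : Fin Q.m, Q.sig T i k < Q.m
  q_sig : ∀ i k : Fin Q.m, Q.q (Q.sig T i k) = T.rw' (Q.word i) (Q.q k)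
  sig_inj : ∀ i k k' : Fin Q.m, k ≠ k' → Q.sig T i k ≠ Q.sig T i k'
  above_fx : ∀ i : Fin Q.m, ∀ p ∈ Q.above T i, p ∈ fx
  above_u : ∀ i : Fin Q.m, ∀ p ∈ Q.above T i, ∀ j : Fin d.n, ¬ Q.sig T i (Q.kc j) < i →
    into T E.S (d.th :: Q.above T i) (d.u j) p = true

theorem good_of_chk {S J : ℕ → Bool} (hS : E.S = S) (hJ : E.J = J) {d : Cfg} {fx : List ℕ}
    (h : Q.chk T S J d fx = true) : Good Q d E fx := by
  subst hS hJ
  simp only [chk, Bool.and_eq_true, List.all_eq_true, List.mem_range, beq_iff_eq, Bool.or_eq_true,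
    bne_iff_ne, nat_blt, List.contains_iff_mem] at h
  obtain ⟨⟨⟨⟨h1, h2⟩, h3⟩, h4⟩, h5⟩ := h
  have hne : ∀ {n : ℕ} (i j : Fin n), i ≠ j → ¬ (i : ℕ) = (j : ℕ) := fun i j hij e => hij (Fin.ext e)
  refine ⟨h1, h2, h3, fun j => (h4 j j.2).1, fun j => (h4 j j.2).2, fun i => (h5 i i.2).1.1.1.1.1.1.1.1,
    fun i k hik => ((h5 i i.2).1.1.1.1.1.1.1.2 k k.2).resolve_left (hne i k hik),
    fun i => (h5 i i.2).1.1.1.1.1.1.2, fun i => (h5 i i.2).1.1.1.1.1.2, fun i => (h5 i i.2).1.1.1.1.2,
    fun i => (h5 i i.2).1.1.1.2, fun i k => ((h5 i i.2).1.1.2 k k.2).1.1.1,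
    fun i k => ((h5 i i.2).1.1.2 k k.2).1.1.2, fun i k => ((h5 i i.2).1.1.2 k k.2).1.2,
    fun i k k' hkk e => hne k k' hkk (by rw [← ((h5 i i.2).1.1.2 k k.2).2, e, ((h5 i i.2).1.1.2 k' k'.2).2]),
    fun i p hp => ((h5 i i.2).1.2 p hp).1, fun i p hp j hj => (((h5 i i.2).1.2 p hp).2 j j.2).resolve_left hj⟩

end QCfg

variable [Fintype F] (d : Cfg) (E) (f : G →* Module.End ℂ W)

/-- the projection on the fixed space of the centre -/
noncomputable def e0 : Module.End ℂ W := ReeRep.proj (f.compAddChar (E.x d.th)) 0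

variable {E}

theorem mem_H {d : Cfg} {a : ℕ} (h : com T E.S d.th a = true) (t : F) : E.x a t ∈ HP f (e0 E d f) :=
  mem_HP_proj f (fun s => by
    show Commute (f (E.x a t)) (f (E.x d.th s))
    exact ((E.commute h s t).symm).map f) 0

theorem mem_C_iff {d : Cfg} (x : W) : x ∈ range (e0 E d f) ↔ ∀ t, f (E.x d.th t) x = x := by
  rw [e0, mem_range_proj]
  simp [AddChar.zero_apply]

variable {d} {Q : QCfg} {fx : List ℕ} (hQ : QCfg.Good Q d E fx)

/-- a root group of the radical in the action on the fixed space -/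
noncomputable def rootC (i : Fin Q.m) : AddChar F (Module.End ℂ (range (e0 E d f))) where
  toFun t := onRange f _ ⟨E.x (Q.q i) t, mem_H f (hQ.thq i) t⟩
  map_zero_eq_one' := LinearMap.ext fun x => Subtype.ext (by simp [onRange_val])
  map_add_eq_mul' s t := LinearMap.ext fun x => Subtype.ext (by
    simp [onRange_val, AddChar.map_add_eq_mul])

theorem rootC_val (i : Fin Q.m) (t : F) (x : range (e0 E d f)) :
    ((rootC f hQ i t x : range (e0 E d f)) : W) = f (E.x (Q.q i) t) x := rfl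

include hQ in
theorem rootC_commute (i k : Fin Q.m) (hik : i ≠ k) (s t : F) :
    Commute (rootC f hQ i s) (rootC f hQ k t) := by
  refine LinearMap.ext fun x => Subtype.ext ?_
  show f (E.x (Q.q i) s) (f (E.x (Q.q k) t) x) = f (E.x (Q.q k) t) (f (E.x (Q.q i) s) x)
  rw [← Module.End.mul_apply, ← Module.End.mul_apply, ← map_mul, ← map_mul]
  rcases of_into (hQ.qq i k hik) with h | ⟨r, hr, h⟩
  · rw [(E.commute h s t).eq]
  · obtain ⟨C, -, hc, -, -⟩ := E.bracket h
    obtain rfl := List.mem_singleton.1 hr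
    rw [hc, map_mul, Module.End.mul_apply, (mem_C_iff f (x : W)).1 x.2]

/-- the radical modulo the centre on the fixed space of the centre -/
noncomputable def RQ : AddChar (Fin Q.m → F) (Module.End ℂ (range (e0 E d f))) :=
  piChar (rootC f hQ) (rootC_commute f hQ)

theorem RQ_single (i : Fin Q.m) (t : F) : RQ f hQ (Pi.single i t) = rootC f hQ i t := piChar_single _ _ i t

theorem RQ_eig {ψ₁ : AddChar F ℂ} {l : (Fin Q.m → F) →ₗ[F] F} {x : range (e0 E d f)}
    (hx : x ∈ range (ReeRep.proj (RQ f hQ) (ch ψ₁ l))) (i : Fin Q.m) (t : F) :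
    f (E.x (Q.q i) t) (x : W) = ψ₁ (t * l (Pi.single i 1)) • (x : W) := by
  have h := congrArg Subtype.val (eig_apply hx (Pi.single i t))
  rw [RQ_single, show (Pi.single i t : Fin Q.m → F) = t • Pi.single i 1 by rw [← Pi.single_smul, smul_eq_mul, mul_one],
    map_smul, smul_eq_mul] at h
  exact h

/-- the positions of the maximal abelian subgroup -/
noncomputable def emb : (F × (Fin d.n → F)) →ₗ[F] (Fin Q.m → F) :=
  (LinearMap.single F (fun _ => F) ⟨Q.k0, hQ.k0_lt⟩).coprod
    (LinearMap.lsum F (fun _ => F) F fun j : Fin d.n => LinearMap.single F (fun _ => F) ⟨Q.kc j, hQ.kc_lt j⟩)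

theorem emb_left (t : F) : emb hQ (t, 0) = Pi.single ⟨Q.k0, hQ.k0_lt⟩ t := by simp [emb]

theorem emb_right (j : Fin d.n) (t : F) : emb hQ (0, Pi.single j t) = Pi.single ⟨Q.kc j, hQ.kc_lt j⟩ t := by
  rw [emb, LinearMap.coprod_apply, map_zero, zero_add, LinearMap.lsum_piSingle]
  rfl

theorem RQ_emb (hd : Cfg.Good0 d E) (w : F × (Fin d.n → F)) (x : range (e0 E d f)) :
    ((RQ f hQ (emb hQ w) x : range (e0 E d f)) : W) = f (Cfg.Y hd (0, w.1, w.2)) x := by
  have hadd : ∀ u v : F × (Fin d.n → F),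
      (∀ x, ((RQ f hQ (emb hQ u) x : range (e0 E d f)) : W) = f (Cfg.Y hd (0, u.1, u.2)) x) →
      (∀ x, ((RQ f hQ (emb hQ v) x : range (e0 E d f)) : W) = f (Cfg.Y hd (0, v.1, v.2)) x) →
      ∀ x, ((RQ f hQ (emb hQ (u + v)) x : range (e0 E d f)) : W) = f (Cfg.Y hd (0, (u + v).1, (u + v).2)) x := by
    intro u v hu hv x
    rw [LinearMap.map_add, AddChar.map_add_eq_mul, Module.End.mul_apply, hu, hv,
      show ((0 : F), (u + v).1, (u + v).2) = ((0 : F), u.1, u.2) + (0, v.1, v.2) by ext <;> simp,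
      AddChar.map_add_eq_mul, map_mul, Module.End.mul_apply]
  revert x
  rw [show w = (w.1, 0) + (0, w.2) by simp]
  refine hadd _ _ (fun x => ?_) ?_
  · rw [emb_left, RQ_single, rootC_val, Cfg.Y_r0]
    simp only [hQ.q_k0]
  · rw [← Finset.univ_sum_single w.2]
    refine Finset.sum_induction _
      (fun u : Fin d.n → F => ∀ x, ((RQ f hQ (emb hQ ((0 : F), u)) x : range (e0 E d f)) : W) =
        f (Cfg.Y hd (0, (0 : F), u)) x) (fun u v hu hv x => ?_) (fun x => ?_) fun j _ x => ?_
    · simpa using hadd (0, u) (0, v) hu hv x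
    · rw [show ((0 : F), (0 : Fin d.n → F)) = 0 from rfl, LinearMap.map_zero, AddChar.map_zero_eq_one,
        show (Cfg.Y hd ((0 : F), (0 : F × (Fin d.n → F)))) = 1 from AddChar.map_zero_eq_one _, map_one]
      rfl
    · rw [emb_right, RQ_single, rootC_val, Cfg.Y_c]
      simp only [hQ.q_kc]

end Cfsg.Agent.Heis
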