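/-
The spectrum of the radical on the fixed space of the centre, when the central multiplicity is one.
-/
import Cfsg.Agent.Lib.MinDegree.Heis.Quot

set_option autoImplicit false
set_option maxHeartbeats 1000000

namespace Cfsg.Agent.Heis

open LinearMap Module Cfsg.Agent.Chev Cfsg.Agent.Chev.Tab

variable {T : Tab} {F G : Type*} [Field F] [Group G]

instance finite_linearMap {V U : Type*} [AddCommGroup V] [Module F V] [AddCommGroup U] [Module F U] [Finite V]
    [Finite U] : Finite (V →ₗ[F] U) :=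
  Finite.of_injective (fun l => (⇑l : V → U)) DFunLike.coe_injective

/-- positions left free by a cell -/
def QCfg.free (Q : QCfg) (T : Tab) (d : Cfg) (i : ℕ) : List ℕ :=
  (List.range d.n).filter fun j => !Nat.blt (Q.sig T i (Q.kc j)) i

/-- a functional on the positions of the maximal abelian subgroup -/
def kf {n : ℕ} : (F × (Fin n → F)) ≃ ((F × (Fin n → F)) →ₗ[F] F) where
  toFun p := (p.1 • LinearMap.id).coprod (∑ j, p.2 j • LinearMap.proj j)
  invFun k := (k (1, 0), fun j => k (0, Pi.single j 1))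
  left_inv p := by
    refine Prod.ext (by simp) (funext fun j => ?_)
    simp [Pi.single_apply]
  right_inv k := by
    refine LinearMap.ext fun w => ?_
    have hw : w = w.1 • ((1 : F), (0 : Fin n → F)) + ∑ j, w.2 j • ((0 : F), Pi.single j 1) := by
      refine Prod.ext ?_ ?_
      · simp [Prod.fst_sum]
      · funext i
        simp [Prod.snd_sum, Pi.single_apply]
    conv_rhs => rw [hw]
    simp only [map_add, map_smul, map_sum, smul_eq_mul]
    simp [mul_comm]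

variable {W : Type*} [AddCommGroup W] [Module ℂ W] [FiniteDimensional ℂ W] [Fintype F]

/-- The standing hypotheses. -/
structure Ctx (d : Cfg) (E : Grp T F G) (Q : QCfg) (fx : List ℕ) (f : G →* Module.End ℂ W)
    (ψ₁ : AddChar F ℂ) : Prop where
  hd : Cfg.Good0 d E
  hQ : QCfg.Good Q d E fx
  hψ : ψ₁.IsPrimitive
  hfx : ∃ L, run T E.S d.ys L (d.ys.filter (· != d.r0)) [d.r0] = some fx
  hkey : ∀ a : F, a ≠ 0 → ∀ φ : (Fin d.n → F) →ₗ[F] F, mu ψ₁ (f.compAddChar (Cfg.Y hd)) (lf 0 a φ) = 1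

variable {d : Cfg} {E : Grp T F G} {Q : QCfg} {fx : List ℕ} {f : G →* Module.End ℂ W} {ψ₁ : AddChar F ℂ}
variable (h : Ctx d E Q fx f ψ₁)

namespace Ctx

/-- the form of a key on the abelian subgroup -/
noncomputable def yf {n : ℕ} (p : F × (Fin n → F)) : F × F × (Fin n → F) →ₗ[F] F :=
  lf 0 p.1 (∑ j, p.2 j • LinearMap.proj j)

theorem yf_apply {n : ℕ} (p : F × (Fin n → F)) (v : F × F × (Fin n → F)) :
    yf p v = p.1 * v.2.1 + ∑ j, p.2 j * v.2.2 j := by simp [yf, lf_apply]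

include h in
theorem mu_key {p : F × (Fin d.n → F)} (hp : p.1 ≠ 0) :
    mu ψ₁ (f.compAddChar (Cfg.Y h.hd)) (yf p) = 1 := by
  exact h.hkey p.1 hp _

/-- The hypotheses from the multiplicity of the centre. -/
theorem ofCentre (hG : Cfg.Good d E) (hQ : QCfg.Good Q d E fx) (hψ : ψ₁.IsPrimitive)
    (hfx : ∃ L, run T E.S d.ys L (d.ys.filter (· != d.r0)) [d.r0] = some fx)
    (hu : (Cfg.sys hG).Uniform f ψ₁) (hm : (Cfg.sys hG).m f ψ₁ = 1) : Ctx d E Q fx f ψ₁ := by
  classical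
  haveI : Fintype ((Fin d.n → F) →ₗ[F] F) := Fintype.ofFinite _
  haveI : Fintype (F × F × (Fin d.n → F) →ₗ[F] F) := Fintype.ofFinite _
  exact ⟨hG.toGood0, hQ, hψ, hfx, fun a ha φ => ((Cfg.sys hG).mu_fixed f hψ hu ha φ).trans hm⟩

include h in
theorem base (a : F) (ha : a ≠ 0) : ∃ v : W, v ≠ 0 ∧
    v ∈ range (ReeRep.proj (f.compAddChar (Cfg.Y h.hd)) (ch ψ₁ (yf ((a, 0) : F × (Fin d.n → F))))) ∧
    ∀ r ∈ fx, Fixes E f v r := by
  have h1 := mu_key h (p := (a, 0)) ha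
  obtain ⟨v, hv0, hv⟩ := exists_of_mu_ne_zero (R := f.compAddChar (Cfg.Y h.hd)) (ψ₁ := ψ₁)
    (l := yf ((a, 0) : F × (Fin d.n → F))) (by rw [h1]; exact one_ne_zero)
  obtain ⟨L, hL⟩ := h.hfx
  have hY := eig_apply hv
  refine ⟨v, hv0, hv, fixes_of_cert h.hd h1 hv0 hv (e := d.r0) (fun p hp hne => ?_) hL fun t => ?_⟩
  · simp only [Cfg.ys, List.mem_cons, List.mem_map, List.mem_range] at hp
    intro t
    rcases hp with rfl | rfl | ⟨j, hj, rfl⟩
    · have := hY (t, 0, 0)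
      rw [yf_apply] at this
      simpa [Cfg.Y_th] using this
    · exact absurd rfl hne
    · have := hY (0, 0, Pi.single ⟨j, hj⟩ t)
      rw [yf_apply] at this
      simpa [Cfg.Y_c] using this
  · have := hY (0, t, 0)
    exact ⟨ψ₁ (yf ((a, 0) : F × (Fin d.n → F)) (0, t, 0)), by simpa [Cfg.Y_r0] using this⟩

include h in
theorem fib [DecidableEq ((F × (Fin d.n → F)) →ₗ[F] F)] [Fintype ((Fin Q.m → F) →ₗ[F] F)]
    {p : F × (Fin d.n → F)} (hp : p.1 ≠ 0) :
    ∑ l : (Fin Q.m → F) →ₗ[F] F with l ∘ₗ emb h.hQ = kf p, mu ψ₁ (RQ f h.hQ) l = 1 := by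
  classical
  rw [← mu_restrict h.hψ (emb h.hQ) (RQ f h.hQ) (kf p), ← mu_key h hp, mu, mu, ReeRep.mult, ReeRep.mult]
  rw [← Submodule.finrank_map_subtype_eq]
  have hk : ∀ w : F × (Fin d.n → F), kf p w = yf p (0, w.1, w.2) := fun w => by
    rw [yf_apply]
    simp [kf]
  refine congrArg (fun S : Submodule ℂ W => finrank ℂ S) (Submodule.ext fun x => ?_)
  rw [Submodule.mem_map]
  constructor
  · rintro ⟨y, hy, rfl⟩
    rw [mem_range_proj] at hy ⊢
    intro v
    have e1 := congrArg Subtype.val (hy v.2)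
    rw [AddChar.compAddMonoidHom_apply] at e1
    erw [RQ_emb f h.hQ h.hd] at e1
    show f (Cfg.Y h.hd v) (y : W) = ψ₁ (yf p v) • (y : W)
    rw [show v = (v.1, 0, 0) + (0, v.2.1, v.2.2) by ext <;> simp, AddChar.map_add_eq_mul, map_mul,
      Module.End.mul_apply, e1, Cfg.Y_th]
    simp only [Submodule.subtype_apply, ch_apply, hk, map_smul, SetLike.val_smul, (mem_C_iff f (y : W)).1 y.2]
    congr 2
    rw [yf_apply, yf_apply]
    simp
  · intro hx
    rw [mem_range_proj] at hx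
    have hxC : x ∈ range (e0 E d f) := (mem_C_iff f x).2 fun t => by
      have := hx (t, 0, 0)
      simpa [Cfg.Y_th, ch_apply, yf_apply] using this
    refine ⟨⟨x, hxC⟩, (mem_range_proj _ _).2 fun w => Subtype.ext ?_, rfl⟩
    rw [AddChar.compAddMonoidHom_apply]
    erw [RQ_emb f h.hQ h.hd]
    rw [ch_apply, hk]
    exact hx (0, w.1, w.2)

include h in
/-- An eigenvector of a key is a translate of a vector with the fixed roots. -/
theorem exists_translate (a : F) (ha : a ≠ 0) (i : Fin Q.m) {φ : Fin d.n → F}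
    (hφ : ∀ j : Fin d.n, Q.sig T i (Q.kc j) < i → φ j = 0) {x : W}
    (hx : x ∈ range (ReeRep.proj (f.compAddChar (Cfg.Y h.hd)) (ch ψ₁ (yf (a, φ))))) :
    ∃ (v : W) (c : ℂ) (s : Fin d.n → F), (∀ j : Fin d.n, Q.sig T i (Q.kc j) < i → s j = 0) ∧
      (∀ r ∈ fx, Fixes E f v r) ∧ x = c • f (Cfg.U h.hd s)⁻¹ v := by
  classical
  obtain ⟨v, hv0, hv, hvfx⟩ := base h a ha
  obtain ⟨C, hC, hU⟩ := Cfg.exists_coef h.hd
  obtain ⟨s, hs⟩ : ∃ s : Fin d.n → F, ∀ j, s j = -(φ j) / (a * C j) := ⟨_, fun _ => rfl⟩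
  obtain ⟨g, hg⟩ : ∃ g, g = Cfg.U h.hd s := ⟨_, rfl⟩
  have hgv : f g v ∈ range (ReeRep.proj (f.compAddChar (Cfg.Y h.hd)) (ch ψ₁ (yf (a, φ)))) := by
    refine (mem_range_proj _ _).2 fun w => ?_
    show f (Cfg.Y h.hd w) (f g v) = ψ₁ (yf (a, φ) w) • f g v
    obtain ⟨w', hw'⟩ : ∃ w', w' = (w.1, w.2.1 + ∑ j, C j * (-s j) * w.2.2 j, w.2.2) := ⟨_, rfl⟩
    have e1 := hU (-s) w
    rw [show (fun j => C j * (-s) j * w.2.2 j) = fun j => C j * (-s j) * w.2.2 j from rfl, ← hw'] at e1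
    have e2 : Cfg.Y h.hd w * g = g * Cfg.Y h.hd w' := by
      rw [← e1, hg, AddChar.map_neg_eq_inv]; group
    rw [← Module.End.mul_apply, ← map_mul, e2, map_mul, Module.End.mul_apply]
    have e3 : f (Cfg.Y h.hd w') v = _ := eig_apply hv w'
    rw [e3, map_smul]
    congr 2
    rw [yf_apply, yf_apply, hw']
    simp only [Pi.zero_apply, zero_mul, Finset.sum_const_zero, add_zero, mul_add, Finset.mul_sum]
    congr 1
    refine Finset.sum_congr rfl fun j _ => ?_
    rw [hs]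
    field_simp [hC j]
  have hg0 : f g v ≠ 0 := fun e => hv0 (by
    have e' := congrArg (f g⁻¹) e
    rwa [map_zero, ← Module.End.mul_apply, ← map_mul, inv_mul_cancel, map_one, Module.End.one_apply] at e')
  obtain ⟨c, rfl⟩ := exists_smul_of_mu_one (mu_key h (p := (a, φ)) ha) hgv hg0 hx
  exact ⟨v, c, -s, fun j hj => by simp [hs, hφ j hj], hvfx, by rw [AddChar.map_neg_eq_inv, inv_inv, ← hg]⟩

include h in
theorem translate (a : F) (ha : a ≠ 0) (i : Fin Q.m) {φ : Fin d.n → F}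
    (hφ : ∀ j : Fin d.n, Q.sig T i (Q.kc j) < i → φ j = 0) {x : W}
    (hx : x ∈ range (ReeRep.proj (f.compAddChar (Cfg.Y h.hd)) (ch ψ₁ (yf (a, φ))))) :
    ∀ r ∈ Q.above T i, Fixes E f x r := by
  classical
  obtain ⟨v, c, s, hs, hvfx, rfl⟩ := exists_translate h a ha i hφ hx
  obtain ⟨g, hg⟩ : ∃ g, g = (Cfg.U h.hd s)⁻¹ := ⟨_, rfl⟩
  rw [← hg]
  let K : Subgroup G := Subgroup.closure {y | ∃ r, (r = d.th ∨ r ∈ Q.above T i) ∧ ∃ t, y = E.x r t}
  let Fv : Subgroup G :=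
    { carrier := {y | f y v = v}
      one_mem' := by simp
      mul_mem' := fun hy hz => fixes_mul hy hz
      inv_mem' := fun hy => inv_fix hy }
  have hKv : K ≤ Fv := (Subgroup.closure_le _).2 (by
    rintro _ ⟨r, hr, t, rfl⟩
    rcases hr with rfl | hr
    · exact hvfx _ h.hQ.th_fx t
    · exact hvfx _ (h.hQ.above_fx i r hr) t)
  have hgen : ∀ j : Fin d.n, ¬ Q.sig T i (Q.kc j) < i → ∀ u, ∀ y ∈ K, E.x (d.u j) u * y * (E.x (d.u j) u)⁻¹ ∈ K := by
    intro j hj u y hy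
    induction hy using Subgroup.closure_induction with
    | mem y hy =>
      obtain ⟨r, hr, t, rfl⟩ := hy
      rcases hr with rfl | hr
      · rw [Cfg.conj_of_commute (E.commute (h.hd.thu j) t u).symm]
        exact Subgroup.subset_closure ⟨_, Or.inl rfl, t, rfl⟩
      · have hi := of_into (h.hQ.above_u i r hr j hj)
        simp only [List.mem_cons] at hi
        rcases hi with hi | ⟨r', hr', hi⟩
        · rw [Cfg.conj_of_commute (E.commute hi u t)]
          exact Subgroup.subset_closure ⟨_, Or.inr hr, t, rfl⟩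
        · obtain ⟨C', -, -, hc, -⟩ := E.bracket hi
          rw [hc]
          exact mul_mem (Subgroup.subset_closure ⟨_, Or.inr hr, t, rfl⟩)
            (Subgroup.subset_closure ⟨_, hr', _, rfl⟩)
    | one => simp
    | mul a b _ _ ha hb =>
      rw [show E.x (d.u j) u * (a * b) * (E.x (d.u j) u)⁻¹ =
        (E.x (d.u j) u * a * (E.x (d.u j) u)⁻¹) * (E.x (d.u j) u * b * (E.x (d.u j) u)⁻¹) by group]
      exact mul_mem ha hb
    | inv a _ ha =>
      rw [show E.x (d.u j) u * a⁻¹ * (E.x (d.u j) u)⁻¹ = (E.x (d.u j) u * a * (E.x (d.u j) u)⁻¹)⁻¹ by group]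
      exact inv_mem ha
  have hN : ∀ s' : Fin d.n → F, (∀ j : Fin d.n, Q.sig T i (Q.kc j) < i → s' j = 0) →
      ∀ y ∈ K, Cfg.U h.hd s' * y * (Cfg.U h.hd s')⁻¹ ∈ K := by
    intro s' hs'
    rw [← Finset.univ_sum_single s']
    refine Finset.sum_induction _ (fun u : Fin d.n → F => ∀ y ∈ K, Cfg.U h.hd u * y * (Cfg.U h.hd u)⁻¹ ∈ K)
      (fun u u' hu hu' y hy => ?_) (fun y hy => by simpa using hy) fun j _ y hy => ?_
    · rw [AddChar.map_add_eq_mul, show Cfg.U h.hd u * Cfg.U h.hd u' * y * (Cfg.U h.hd u * Cfg.U h.hd u')⁻¹ =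
        Cfg.U h.hd u * (Cfg.U h.hd u' * y * (Cfg.U h.hd u')⁻¹) * (Cfg.U h.hd u)⁻¹ by group]
      exact hu _ (hu' _ hy)
    · rw [Cfg.U_single]
      by_cases hj : Q.sig T i (Q.kc j) < i
      · simpa [hs' j hj] using hy
      · exact hgen j hj _ y hy
  intro r hr t
  have hmem := hN s hs (E.x r t)
    (Subgroup.subset_closure ⟨r, Or.inr hr, t, rfl⟩)
  rw [show Cfg.U h.hd s = g⁻¹ by rw [hg, inv_inv], inv_inv] at hmem
  have e : f (g⁻¹ * E.x r t * g) v = v := hKv hmem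
  rw [map_smul]
  congr 1
  rw [← Module.End.mul_apply, ← map_mul, show E.x r t * g = g * (g⁻¹ * E.x r t * g) by group, map_mul,
    Module.End.mul_apply, e]

include h in
theorem supp_zero (a : F) (ha : a ≠ 0) (i k : Fin Q.m) {φ : Fin d.n → F}
    (hφ : ∀ j : Fin d.n, Q.sig T i (Q.kc j) < i → φ j = 0) {l : (Fin Q.m → F) →ₗ[F] F}
    (hl : l ∘ₗ emb h.hQ = kf (a, φ)) (hne : mu ψ₁ (RQ f h.hQ) l ≠ 0) (hk : Q.sig T i k < i) :
    l (Pi.single k 1) = 0 := by
  classical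
  obtain ⟨x, hx0, hx⟩ := exists_of_mu_ne_zero hne
  have hxY : (x : W) ∈ range (ReeRep.proj (f.compAddChar (Cfg.Y h.hd)) (ch ψ₁ (yf (a, φ)))) := by
    refine (mem_range_proj _ _).2 fun v => ?_
    show f (Cfg.Y h.hd v) (x : W) = _
    have e2 := congrArg Subtype.val (eig_apply hx (emb h.hQ v.2))
    erw [RQ_emb f h.hQ h.hd] at e2
    rw [show v = (v.1, 0, 0) + (0, v.2.1, v.2.2) by ext <;> simp, AddChar.map_add_eq_mul, map_mul,
      Module.End.mul_apply]
    erw [e2]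
    rw [SetLike.val_smul, map_smul, Cfg.Y_th, (mem_C_iff f (x : W)).1 x.2, ← LinearMap.comp_apply, hl, ch_apply, yf_apply]
    simp [kf]
  have hfix := translate h a ha i hφ hxY (Q.q k)
    (List.mem_map.2 ⟨k, List.mem_filter.2 ⟨List.mem_range.2 k.2, nat_blt.2 hk⟩, rfl⟩)
  by_contra hne0
  refine h.hψ hne0 (DFunLike.ext _ _ fun t => ?_)
  have e := RQ_eig f h.hQ hx k t
  rw [hfix t] at e
  have hx0' : (x : W) ≠ 0 := fun e => hx0 (Subtype.ext e)
  rw [AddChar.mulShift_apply, AddChar.one_apply, mul_comm]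
  by_contra h'
  exact hx0' ((smul_eq_zero.1 (show (ψ₁ (t * l (Pi.single k 1)) - 1) • (x : W) = 0 by
    rw [sub_smul, one_smul, ← e, sub_self])).resolve_left (sub_ne_zero.2 h'))

/-- the permutation of a word on functionals -/
noncomputable def perm (i : Fin Q.m) : (Fin Q.m → F) →ₗ[F] (Fin Q.m → F) :=
  LinearMap.lsum F (fun _ => F) F fun k : Fin Q.m =>
    (Grp.wSign T (Q.word i) (Q.q k) : F) • LinearMap.single F (fun _ => F) ⟨Q.sig T i k, h.hQ.sig_lt i k⟩

theorem perm_single (i k : Fin Q.m) (t : F) : perm h i (Pi.single k t) =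
    Pi.single ⟨Q.sig T i k, h.hQ.sig_lt i k⟩ ((Grp.wSign T (Q.word i) (Q.q k) : F) * t) := by
  rw [perm, LinearMap.lsum_piSingle, LinearMap.smul_apply]
  exact (Pi.single_smul _ _ _).symm

include h in
theorem perm_bijective (i : Fin Q.m) : Function.Bijective (perm h i) := by
  have hs : Function.Bijective fun k : Fin Q.m => (⟨Q.sig T i k, h.hQ.sig_lt i k⟩ : Fin Q.m) :=
    Finite.injective_iff_bijective.1 fun k k' e => by
      by_contra hne
      exact h.hQ.sig_inj i k k' hne (congrArg Fin.val e)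
  refine Finite.surjective_iff_bijective.1 fun y => ?_
  refine LinearMap.range_eq_top.1 (top_le_iff.1 ?_) y
  rintro z -
  rw [← Finset.univ_sum_single z]
  refine Submodule.sum_mem _ fun j _ => ?_
  obtain ⟨k, rfl⟩ := hs.2 j
  refine ⟨Pi.single k ((Grp.wSign T (Q.word i) (Q.q k) : F) * z ⟨Q.sig T i k, h.hQ.sig_lt i k⟩), ?_⟩
  rw [perm_single h, ← mul_assoc]
  rcases Grp.wSign_sq (T := T) (Q.word i) (Q.q k) with e | e <;> simp [e]

include h in
theorem nw_mem (i : Fin Q.m) : E.nw (Q.word i) ∈ HP f (e0 E d f) := by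
  refine mem_HP_proj f (fun s => ?_) 0
  have e := E.nw_conj (h.hQ.thw i) s
  rw [h.hQ.thw_eq, h.hQ.thw_sign, Int.cast_one, one_mul, mul_inv_eq_iff_eq_mul] at e
  exact (show Commute (E.nw (Q.word i)) (E.x d.th s) from e).map f

include h in
theorem RQ_perm (i : Fin Q.m) (v : Fin Q.m → F) :
    onRange f _ ⟨_, nw_mem h i⟩ * RQ f h.hQ v = RQ f h.hQ (perm h i v) * onRange f _ ⟨_, nw_mem h i⟩ := by
  classical
  rw [← Finset.univ_sum_single v]
  refine Finset.sum_induction _ (fun u => onRange f _ ⟨_, nw_mem h i⟩ * RQ f h.hQ u =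
    RQ f h.hQ (perm h i u) * onRange f _ ⟨_, nw_mem h i⟩) (fun u u' hu hu' => ?_) (by simp) fun k _ => ?_
  · rw [LinearMap.map_add, AddChar.map_add_eq_mul, AddChar.map_add_eq_mul, ← mul_assoc, hu, mul_assoc, hu', mul_assoc]
  · refine LinearMap.ext fun x => Subtype.ext ?_
    rw [perm_single h, RQ_single, RQ_single]
    show f (E.nw (Q.word i)) (f (E.x (Q.q k) (v k)) x) = f (E.x (Q.q (Q.sig T i k)) _) (f (E.nw (Q.word i)) x)
    rw [← Module.End.mul_apply, ← Module.End.mul_apply, ← map_mul, ← map_mul, h.hQ.q_sig, ← E.nw_conj (h.hQ.qw i k)]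
    group

include h in
theorem mu_perm (i : Fin Q.m) (l : (Fin Q.m → F) →ₗ[F] F) :
    mu ψ₁ (RQ f h.hQ) (l ∘ₗ perm h i) = mu ψ₁ (RQ f h.hQ) l := by
  have hinv : ∀ (g : HP f (e0 E d f)), onRange f _ g * onRange f _ g⁻¹ = 1 := fun g => by
    rw [← map_mul, mul_inv_cancel, map_one]
  refine mu_conj (perm h i) (perm_bijective h i) (hinv ⟨_, nw_mem h i⟩) (fun v => ?_) l
  rw [mul_assoc, ← RQ_perm h, ← mul_assoc, ← map_mul, inv_mul_cancel, map_one, one_mul]

include h in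
theorem cell_sum [Fintype ((Fin Q.m → F) →ₗ[F] F)] [DecidableEq F] (i : Fin Q.m) (P : ((Fin Q.m → F) →ₗ[F] F) → Prop)
    [DecidablePred P] :
    ∑ l : (Fin Q.m → F) →ₗ[F] F with (l (Pi.single i 1) ≠ 0 ∧ ∀ k < i, l (Pi.single k 1) = 0) ∧ P l,
        mu ψ₁ (RQ f h.hQ) l =
      ∑ l : (Fin Q.m → F) →ₗ[F] F with (l (Pi.single ⟨Q.k0, h.hQ.k0_lt⟩ 1) ≠ 0 ∧
        ∀ k : Fin Q.m, Q.sig T i k < i → l (Pi.single k 1) = 0) ∧
          ∀ l' : (Fin Q.m → F) →ₗ[F] F, l' ∘ₗ perm h i = l → P l',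
        mu ψ₁ (RQ f h.hQ) l := by
  classical
  have hb : Function.Bijective fun l : (Fin Q.m → F) →ₗ[F] F => l ∘ₗ perm h i :=
    Finite.injective_iff_bijective.1 fun l l' e => LinearMap.ext fun v => by
      obtain ⟨u, rfl⟩ := (perm_bijective h i).2 v
      exact LinearMap.congr_fun e u
  rw [Finset.sum_filter, Finset.sum_filter]
  refine Fintype.sum_bijective _ hb _ _ fun l => ?_
  have hsg : ∀ k : Fin Q.m, (Grp.wSign T (Q.word i) (Q.q k) : F) ≠ 0 := fun k => by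
    rcases Grp.wSign_sq (T := T) (Q.word i) (Q.q k) with e | e <;> simp [e]
  have hcoord : ∀ k : Fin Q.m, (l ∘ₗ perm h i) (Pi.single k 1) = 0 ↔
      l (Pi.single ⟨Q.sig T i k, h.hQ.sig_lt i k⟩ 1) = 0 := fun k => by
    rw [LinearMap.comp_apply, perm_single h, mul_one,
      show (Pi.single ⟨Q.sig T i k, h.hQ.sig_lt i k⟩ (Grp.wSign T (Q.word i) (Q.q k) : F) : Fin Q.m → F) =
        (Grp.wSign T (Q.word i) (Q.q k) : F) • Pi.single ⟨Q.sig T i k, h.hQ.sig_lt i k⟩ 1 by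
        rw [← Pi.single_smul, smul_eq_mul, mul_one], map_smul, smul_eq_mul, mul_eq_zero]
    exact or_iff_right (hsg k)
  have hs0 : (⟨Q.sig T i Q.k0, h.hQ.sig_lt i ⟨Q.k0, h.hQ.k0_lt⟩⟩ : Fin Q.m) = i := Fin.ext (h.hQ.sig_k0 i)
  have hsurj : ∀ k : Fin Q.m, ∃ k' : Fin Q.m, (⟨Q.sig T i k', h.hQ.sig_lt i k'⟩ : Fin Q.m) = k := by
    refine (Finite.injective_iff_surjective.1 fun k k' e => ?_)
    by_contra hne
    exact h.hQ.sig_inj i k k' hne (congrArg Fin.val e)
  have hiff : ((l (Pi.single i 1) ≠ 0 ∧ ∀ k < i, l (Pi.single k 1) = 0) ∧ P l) ↔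
      (((l ∘ₗ perm h i) (Pi.single ⟨Q.k0, h.hQ.k0_lt⟩ 1) ≠ 0 ∧
        ∀ k : Fin Q.m, Q.sig T i k < i → (l ∘ₗ perm h i) (Pi.single k 1) = 0) ∧
          ∀ l', l' ∘ₗ perm h i = l ∘ₗ perm h i → P l') := by
    refine and_congr (and_congr ?_ ?_) ⟨fun hP l' e => (hb.1 e) ▸ hP, fun hP => hP l rfl⟩
    · rw [Ne, Ne, hcoord, hs0]
    · constructor
      · intro H k hk
        rw [hcoord]
        exact H _ hk
      · intro H k hk
        obtain ⟨k', rfl⟩ := hsurj k
        exact (hcoord k').1 (H k' hk)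
  rw [mu_perm h]
  simp only [hiff]

include h in
theorem sum_sel [Fintype ((Fin Q.m → F) →ₗ[F] F)] [DecidableEq F] (i : Fin Q.m) :
    ∑ l : (Fin Q.m → F) →ₗ[F] F with (l (Pi.single ⟨Q.k0, h.hQ.k0_lt⟩ 1) ≠ 0 ∧
        ∀ k : Fin Q.m, Q.sig T i k < i → l (Pi.single k 1) = 0),
        mu ψ₁ (RQ f h.hQ) l =
      (Fintype.card F - 1) * Fintype.card F ^ (Q.free T d i).length := by
  classical
  haveI : Fintype ((F × (Fin d.n → F)) →ₗ[F] F) := Fintype.ofEquiv _ kf
  obtain ⟨key, hkey⟩ : ∃ key : ((Fin Q.m → F) →ₗ[F] F) → (F × (Fin d.n → F)),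
      ∀ l, key l = kf.symm (l ∘ₗ emb h.hQ) := ⟨_, fun _ => rfl⟩
  have hk1 : ∀ l, (key l).1 = l (Pi.single ⟨Q.k0, h.hQ.k0_lt⟩ 1) := fun l => by
    rw [hkey]
    show l (emb h.hQ (1, 0)) = _
    rw [emb_left]
  have hk2 : ∀ l j, (key l).2 j = l (Pi.single ⟨Q.kc j, h.hQ.kc_lt j⟩ 1) := fun l j => by
    rw [hkey]
    show l (emb h.hQ (0, Pi.single j 1)) = _
    rw [emb_right]
  obtain ⟨ok, hok⟩ : ∃ ok : Finset (F × (Fin d.n → F)), ok = (Finset.univ.erase (0 : F)) ×ˢ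
      Fintype.piFinset (fun j : Fin d.n => if Q.sig T i (Q.kc j) < i then {0} else Finset.univ) := ⟨_, rfl⟩
  have hokmem : ∀ p, p ∈ ok ↔ p.1 ≠ 0 ∧ ∀ j : Fin d.n, Q.sig T i (Q.kc j) < i → p.2 j = 0 := fun p => by
    rw [hok]
    simp only [Finset.mem_product, Finset.mem_erase, Finset.mem_univ, and_true, Fintype.mem_piFinset]
    refine and_congr Iff.rfl (forall_congr' fun j => ?_)
    split_ifs with hj <;> simp [hj]
  rw [Finset.sum_filter, ← Finset.sum_fiberwise Finset.univ key]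
  have hcard : ok.card = (Fintype.card F - 1) * Fintype.card F ^ (Q.free T d i).length := by
    rw [hok, Finset.card_product, Finset.card_erase_of_mem (Finset.mem_univ _), Finset.card_univ,
      Fintype.card_piFinset]
    congr 1
    simp only [apply_ite Finset.card, Finset.card_singleton, Finset.card_univ, Finset.prod_ite, Finset.prod_const_one,
      Finset.prod_const, one_mul]
    congr 1
    rw [← Finset.card_map Fin.valEmbedding]
    have : (Q.free T d i).Nodup := List.nodup_range.filter _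
    rw [← List.toFinset_card_of_nodup this]
    congr 1
    ext j
    simp only [Finset.mem_map, Finset.mem_filter, Finset.mem_univ, true_and, Fin.valEmbedding_apply,
      QCfg.free, List.mem_toFinset, List.mem_filter, List.mem_range, Bool.not_eq_true', Bool.eq_false_iff, ne_eq,
      Nat.blt, Nat.ble_eq]
    exact ⟨fun ⟨a, ha, e⟩ => e ▸ ⟨a.2, ha⟩, fun hj => ⟨⟨j, hj.1⟩, hj.2, rfl⟩⟩
  rw [← hcard, Finset.card_eq_sum_ones, ← Finset.sum_subset (Finset.subset_univ ok)]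
  · refine Finset.sum_congr rfl fun p hp => ?_
    obtain ⟨hp1, hp2⟩ := (hokmem p).1 hp
    have he : ∀ l, key l = p ↔ l ∘ₗ emb h.hQ = kf p := fun l => by rw [hkey, Equiv.symm_apply_eq]
    rw [← fib h hp1, Finset.filter_congr fun l _ => he l]
    refine Finset.sum_congr rfl fun l hl => ?_
    simp only [Finset.mem_filter, Finset.mem_univ, true_and] at hl
    by_cases h0 : mu ψ₁ (RQ f h.hQ) l = 0
    · simp [h0]
    rw [if_pos]
    refine ⟨?_, fun k hk => supp_zero h p.1 hp1 i k hp2 hl h0 hk⟩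
    rw [← hk1, (he l).2 hl]
    exact hp1
  · intro p _ hp
    refine Finset.sum_eq_zero fun l hl => if_neg fun hc => hp ((hokmem p).2 ?_)
    simp only [Finset.mem_filter, Finset.mem_univ, true_and] at hl
    subst hl
    refine ⟨by rw [hk1]; exact hc.1, fun j hj => ?_⟩
    rw [hk2]
    exact hc.2 _ hj

theorem sum_split {M : Type*} [AddCommMonoid M] [DecidableEq F] {m : ℕ} [Fintype ((Fin m → F) →ₗ[F] F)]
    (val : ((Fin m → F) →ₗ[F] F) → M) :
    ∑ l, val l = val 0 + ∑ i : Fin m,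
      ∑ l : (Fin m → F) →ₗ[F] F with l (Pi.single i 1) ≠ 0 ∧ ∀ k < i, l (Pi.single k 1) = 0, val l := by
  classical
  rw [← Finset.add_sum_erase _ _ (Finset.mem_univ (0 : (Fin m → F) →ₗ[F] F))]
  congr 1
  have hex : ∀ l : (Fin m → F) →ₗ[F] F, l ≠ 0 → ∃ i, l (Pi.single i 1) ≠ 0 := fun l hl => by
    by_contra hh
    push Not at hh
    exact hl (LinearMap.pi_ext' fun i => LinearMap.ext_ring (by simpa using hh i))
  have hcover : (Finset.univ.erase (0 : (Fin m → F) →ₗ[F] F)) = Finset.univ.biUnion fun i : Fin m =>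
      Finset.univ.filter fun l : (Fin m → F) →ₗ[F] F => l (Pi.single i 1) ≠ 0 ∧ ∀ k < i, l (Pi.single k 1) = 0 := by
    ext l
    simp only [Finset.mem_erase, Finset.mem_univ, and_true, Finset.mem_biUnion, Finset.mem_filter, true_and]
    refine ⟨fun hl => ?_, fun ⟨i, hi, _⟩ e => hi (by rw [e]; simp)⟩
    have := hex l hl
    refine ⟨Fin.find _ this, Fin.find_spec this, fun k hk => ?_⟩
    by_contra hk0
    exact Fin.find_min this hk hk0
  rw [hcover, Finset.sum_biUnion]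
  · intro i _ j _ hij
    refine Finset.disjoint_left.2 fun l hi hj => ?_
    simp only [Finset.mem_filter, Finset.mem_univ, true_and] at hi hj
    rcases lt_or_gt_of_ne hij with hlt | hlt
    · exact hi.1 (hj.2 i hlt)
    · exact hj.1 (hi.2 j hlt)

include h in
theorem finrank_fixed :
    finrank ℂ (range (e0 E d f)) = mu ψ₁ (RQ f h.hQ) 0 +
      (Fintype.card F - 1) * ∑ i : Fin Q.m, Fintype.card F ^ (Q.free T d i).length := by
  classical
  haveI : Fintype ((Fin Q.m → F) →ₗ[F] F) := Fintype.ofFinite _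
  rw [← sum_mu h.hψ (RQ f h.hQ), sum_split, Finset.mul_sum]
  congr 1
  refine Finset.sum_congr rfl fun i _ => ?_
  rw [← sum_sel h i]
  have := cell_sum h i fun _ => True
  simpa using this

end Ctx

end Cfsg.Agent.Heis
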