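/-
The trace of a root element of the Levi complement, and the action of the Levi complement on the fixed space
of the radical.
-/
import Cfsg.Agent.Lib.MinDegree.Heis.Spectrum

set_option autoImplicit false
set_option maxHeartbeats 1000000

namespace Cfsg.Agent.Heis

open LinearMap Module Cfsg.Agent.Chev Cfsg.Agent.Chev.Tab

variable {T : Tab} {F G : Type*} [Field F] [Group G]

/-- where a root group moves a position -/
def tgt (T : Tab) (S : ℕ → Bool) (qs : List ℕ) (b k : ℕ) : Option ℕ :=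
  bif com T S b (qs.getD k 0) then none
  else match sumR T b (qs.getD k 0) with
    | some (r, _) => bif qs.contains r then some (qs.idxOf r) else none
    | none => none

/-- a root group shifts the positions -/
def shiftChk (T : Tab) (S : ℕ → Bool) (ext qs : List ℕ) (b : ℕ) : Bool :=
  (List.range qs.length).all fun k =>
    match tgt T S qs b k with
    | none => into T S ext b (qs.getD k 0)
    | some k' => Nat.blt k' qs.length && bra T S b (qs.getD k 0) (qs.getD k' 0) && (tgt T S qs b k').isNone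

/-- the shift with given coefficients -/
noncomputable def shiftMap {m : ℕ} (t : Fin m → Option (Fin m)) (co : Fin m → F) :
    (Fin m → F) →ₗ[F] (Fin m → F) :=
  LinearMap.lsum F (fun _ => F) F fun k =>
    LinearMap.single F (fun _ => F) k + (t k).elim 0 fun k' => co k • LinearMap.single F (fun _ => F) k'

theorem shiftMap_single {m : ℕ} (t : Fin m → Option (Fin m)) (co : Fin m → F) (k : Fin m) (x : F) :
    shiftMap t co (Pi.single k x) = Pi.single k x + (t k).elim 0 fun k' => Pi.single k' (co k * x) := by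
  rw [shiftMap, LinearMap.lsum_piSingle, LinearMap.add_apply]
  cases t k with
  | none => rfl
  | some k' =>
    simp only [Option.elim_some, LinearMap.smul_apply, LinearMap.coe_single]
    rw [← Pi.single_smul]
    rfl

theorem shiftMap_bijective [Finite F] {m : ℕ} {t : Fin m → Option (Fin m)} (ht : ∀ k k', t k = some k' → t k' = none)
    (co : Fin m → F) : Function.Bijective (shiftMap t co) := by
  have key : (shiftMap t (-co)).comp (shiftMap t co) = LinearMap.id := by
    refine LinearMap.pi_ext fun k x => ?_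
    rw [LinearMap.comp_apply, shiftMap_single, LinearMap.map_add, shiftMap_single, LinearMap.id_apply]
    cases h : t k with
    | none => simp
    | some k' =>
      simp only [Option.elim_some, Pi.neg_apply]
      rw [shiftMap_single, ht k k' h, Option.elim_none, add_zero, neg_mul, Pi.single_neg]
      abel
  exact Finite.injective_iff_bijective.1 fun x y e => by
    have := congrArg (shiftMap t (-co)) e
    rwa [← LinearMap.comp_apply, ← LinearMap.comp_apply, key] at this

theorem shiftMap_comp_ne {m : ℕ} {t : Fin m → Option (Fin m)} {co : Fin m → F} {l : (Fin m → F) →ₗ[F] F}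
    {k k' : Fin m} (hk : t k = some k') (hco : co k ≠ 0) (hl : l (Pi.single k' 1) ≠ 0) :
    l.comp (shiftMap t co) ≠ l := by
  intro e
  have e' := LinearMap.congr_fun e (Pi.single k 1)
  rw [LinearMap.comp_apply, shiftMap_single, hk, Option.elim_some, LinearMap.map_add, add_eq_left, mul_one,
    show (Pi.single k' (co k) : Fin m → F) = co k • Pi.single k' 1 by rw [← Pi.single_smul, smul_eq_mul, mul_one],
    map_smul, smul_eq_mul] at e'
  exact mul_ne_zero hco hl e'

theorem exists_shift {S : ℕ → Bool} (E : Grp T F G) (hS : E.S = S) {ext qs : List ℕ} {b : ℕ}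
    (h : shiftChk T S ext qs b = true) :
    ∃ (t : Fin qs.length → Option (Fin qs.length)) (co : Fin qs.length → F),
      (∀ k k', t k = some k' → t k' = none) ∧ (∀ k, (t k).map Fin.val = tgt T S qs b k) ∧ (∀ k, co k ≠ 0) ∧
        ∀ s k x, (t k = none ∧ ((∀ t, Commute (E.x b t) (E.x (qs.getD k 0) x)) ∨ ∃ r ∈ ext, ∃ y,
            E.x b s * E.x (qs.getD k 0) x * (E.x b s)⁻¹ = E.x (qs.getD k 0) x * E.x r y)) ∨
          ∃ k', t k = some k' ∧
            E.x b s * E.x (qs.getD k 0) x * (E.x b s)⁻¹ = E.x (qs.getD k 0) x * E.x (qs.getD k' 0) (co k * s * x) := by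
  subst hS
  simp only [shiftChk, List.all_eq_true, List.mem_range] at h
  obtain ⟨t, ht⟩ : ∃ t : Fin qs.length → Option (Fin qs.length), ∀ k, (t k).map Fin.val = tgt T E.S qs b k := by
    refine ⟨fun k => (tgt T E.S qs b k).bind fun k' => if hk : k' < qs.length then some ⟨k', hk⟩ else none,
      fun k => ?_⟩
    have := h k k.2
    cases e : tgt T E.S qs b k with
    | none => simp [e]
    | some k' =>
      simp only [e, Bool.and_eq_true, nat_blt] at this
      simp [e, this.1.1]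
  have hex : ∀ k : Fin qs.length, ∃ C : F, C ≠ 0 ∧ ∀ s x, (t k = none ∧
      ((∀ t, Commute (E.x b t) (E.x (qs.getD k 0) x)) ∨ ∃ r ∈ ext, ∃ y,
        E.x b s * E.x (qs.getD k 0) x * (E.x b s)⁻¹ = E.x (qs.getD k 0) x * E.x r y)) ∨
      ∃ k', t k = some k' ∧
        E.x b s * E.x (qs.getD k 0) x * (E.x b s)⁻¹ = E.x (qs.getD k 0) x * E.x (qs.getD k' 0) (C * s * x) := by
    intro k
    have hk := h k k.2
    rw [← ht k] at hk
    cases e : t k with
    | none =>
      simp only [e, Option.map_none] at hk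
      refine ⟨1, one_ne_zero, fun s x => Or.inl ⟨rfl, ?_⟩⟩
      rcases of_into hk with hc | ⟨r, hr, hc⟩
      · exact Or.inl fun t => E.commute hc t x
      · obtain ⟨C, -, -, hb, -⟩ := E.bracket hc
        exact Or.inr ⟨r, hr, _, hb s x⟩
    | some k' =>
      simp only [e, Option.map_some, Bool.and_eq_true] at hk
      obtain ⟨C, hC, -, hb, -⟩ := E.bracket hk.1.2
      exact ⟨C, hC, fun s x => Or.inr ⟨k', rfl, hb s x⟩⟩
  choose co hco hrel using hex
  refine ⟨t, co, fun k k' e => ?_, ht, hco, fun s k x => hrel k s x⟩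
  have hk := h k k.2
  rw [← ht k, e] at hk
  simp only [Option.map_some, Bool.and_eq_true, Option.isNone_iff_eq_none] at hk
  have := ht k'
  rw [hk.2] at this
  simpa using this

/-- The data of the trace computation. -/
structure TCfg where
  a1 : ℕ
  a2 : ℕ
  wa : List ℕ
  wz : List ℕ
  Lz : List (ℕ × Option (ℕ × ℕ))

namespace TCfg

variable (D : TCfg)

/-- whether a position of the maximal abelian subgroup is the image of another -/
def hit (T : Tab) (S : ℕ → Bool) (d : Cfg) (j : ℕ) : Bool :=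
  (List.range d.n).any fun k => tgt T S ((List.range d.n).map d.c) D.a1 k == some j

/-- the positions which are not images -/
def still (T : Tab) (S : ℕ → Bool) (d : Cfg) : List ℕ := (List.range d.n).filter fun j => !D.hit T S d j

/-- the root carried onto `a2` by a word -/
def pre (T : Tab) (Q : QCfg) (i : ℕ) : ℕ := T.rw' (Q.word i).reverse D.a2

/-- the cells whose lines are fixed -/
def fixCase (T : Tab) (S : ℕ → Bool) (d : Cfg) (Q : QCfg) (fx : List ℕ) (i : ℕ) : Bool :=
  fx.contains (D.pre T Q i) && (Q.free T d i).all fun j => com T S (D.pre T Q i) (d.u j)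

/-- checks of the trace on the whole space -/
def chkA (T : Tab) (S J : ℕ → Bool) (d : Cfg) : Bool :=
  com T S d.th D.a1 && com T S D.a1 d.r0 && com T S D.a1 d.a0 &&
  shiftChk T S [] ((List.range d.n).map d.c) D.a1 &&
  ((D.still T S d).all fun j => com T S D.a1 (d.z j)) &&
  (match run T S d.ys D.Lz (d.ys.filter (· != d.th)) [d.th] with
    | some l => l.contains D.a1
    | none => false) &&
  Grp.wordOK T S J D.wa D.a1 && T.rw' D.wa D.a1 == D.a2 &&
  Grp.wordOK T S J D.wa d.th && T.rw' D.wa d.th == d.th && Grp.wSign T D.wa d.th == 1 &&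
  Grp.wordOK T S J D.wz D.a1 && T.rw' D.wz D.a1 == d.th

/-- checks of the trace on the cells -/
def chkB (T : Tab) (S J : ℕ → Bool) (d : Cfg) (Q : QCfg) (fx : List ℕ) : Bool :=
  com T S d.th D.a2 && shiftChk T S [d.th] Q.qs D.a2 &&
  (List.range Q.m).all fun i =>
    Grp.wordOK T S J (Q.word i) (D.pre T Q i) && T.rw' (Q.word i) (D.pre T Q i) == D.a2 &&
      com T S d.th (D.pre T Q i) && shiftChk T S [d.th] Q.qs (D.pre T Q i) &&
      (D.fixCase T S d Q fx i ||
        (List.range d.n).any fun j => tgt T S Q.qs (D.pre T Q i) (Q.kc j) == some Q.k0)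

end TCfg

variable {W : Type*} [AddCommGroup W] [Module ℂ W] [FiniteDimensional ℂ W] [Fintype F]
variable {d : Cfg} {E : Grp T F G} {Q : QCfg} {fx : List ℕ} {f : G →* Module.End ℂ W} {ψ₁ : AddChar F ℂ}
variable (h : Ctx d E Q fx f ψ₁) {D : TCfg}

/-- functionals on a power of the field -/
def cf {n : ℕ} : (Fin n → F) ≃ ((Fin n → F) →ₗ[F] F) where
  toFun p := ∑ j, p j • LinearMap.proj j
  invFun φ j := φ (Pi.single j 1)
  left_inv p := funext fun j => by simp [Pi.single_apply]
  right_inv φ := LinearMap.pi_ext' fun i => LinearMap.ext_ring (by simp [Pi.single_apply])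

namespace Ctx

include h in
theorem trace_Z (hG : Cfg.Good d E) (hu : (Cfg.sys hG).Uniform f ψ₁) (hm : (Cfg.sys hG).m f ψ₁ = 1) {t : F} (ht : t ≠ 0) :
    trace ℂ W (f (E.x d.th t)) =
      (finrank ℂ (range (e0 E d f)) : ℂ) - (Fintype.card F : ℂ) * (Fintype.card F : ℂ) ^ d.n := by
  classical
  haveI : Fintype ((Fin d.n → F) →ₗ[F] F) := Fintype.ofFinite _
  haveI : Fintype (F × F × (Fin d.n → F) →ₗ[F] F) := Fintype.ofFinite _
  obtain ⟨RZ, hR⟩ : ∃ RZ, RZ = (Cfg.sys hG).RZ f := ⟨_, rfl⟩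
  have hv : ∀ s, RZ s = f (E.x d.th s) := fun s => by
    rw [hR]
    exact congrArg f (Cfg.Y_th h.hd s)
  have hRC : RZ = f.compAddChar (E.x d.th) := DFunLike.ext _ _ hv
  have hT : Fintype.card ((Fin d.n → F) →ₗ[F] F) = Fintype.card F ^ d.n := by
    rw [← Fintype.card_congr cf]; simp
  rw [← hv, ← mul_one (RZ t), ← ReeRep.sum_proj RZ, Finset.mul_sum, map_sum,
    ← Finset.add_sum_erase _ _ (Finset.mem_univ (0 : AddChar F ℂ))]
  have hmult : ∀ χ : AddChar F ℂ, χ ≠ 0 →
      (ReeRep.mult RZ χ : ℂ) = (Fintype.card F : ℂ) * (Fintype.card F : ℂ) ^ d.n := by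
    intro χ hχ
    obtain ⟨a, ha⟩ := (Fintype.bijective_iff_injective_and_card (fun a : F => ψ₁.mulShift a)).2
      ⟨AddChar.to_mulShift_inj_of_isPrimitive h.hψ, AddChar.card_eq.symm⟩ |>.2 χ
    have ha0 : a ≠ 0 := fun e => hχ (by rw [← ha, e]; exact AddChar.mulShift_zero ψ₁)
    rw [← ha, hR, (Cfg.sys hG).mu_RZ f h.hψ]
    simp [(Cfg.sys hG).mu_central f hu ha0, hm, hT]
  rw [Finset.sum_congr rfl fun χ hχ => show trace ℂ W (RZ t * ReeRep.proj RZ χ) =
      χ t * ((Fintype.card F : ℂ) * (Fintype.card F : ℂ) ^ d.n) by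
    rw [ReeRep.mul_proj, map_smul, ReeRep.trace_proj, hmult χ (Finset.ne_of_mem_erase hχ), smul_eq_mul],
    ← Finset.sum_mul, ReeRep.mul_proj, AddChar.zero_apply, one_smul, ReeRep.trace_proj]
  have hs : ∑ χ : AddChar F ℂ, χ t = 0 := by rw [AddChar.sum_apply_eq_ite, if_neg ht]
  rw [← Finset.add_sum_erase _ _ (Finset.mem_univ (0 : AddChar F ℂ)), AddChar.zero_apply] at hs
  rw [eq_neg_of_add_eq_zero_right hs, hRC]
  show (finrank ℂ (range (e0 E d f)) : ℂ) + _ = _
  ring

include h in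
theorem trace_C (a : ℕ) (ha : com T E.S d.th a = true) (s : F) :
    trace ℂ W (f (E.x a s) * e0 E d f) = trace ℂ _ (onRange f (e0 E d f) ⟨_, mem_H f ha s⟩) := by
  have hid : IsIdempotentElem (e0 E d f) := ReeRep.isIdempotentElem_proj 0
  have hc : Commute (f (E.x a s)) (e0 E d f) := mem_H f ha s
  have hmem : ∀ x, (f (E.x a s) * e0 E d f) x ∈ range (e0 E d f) := fun x => by
    rw [hc.eq]; exact ⟨_, rfl⟩
  rw [← LinearMap.trace_restrict_eq_of_forall_mem (range (e0 E d f)) _ hmem]
  congr 1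
  refine LinearMap.ext fun x => Subtype.ext ?_
  show f (E.x a s) (e0 E d f x) = f (E.x a s) x
  obtain ⟨x, y, rfl⟩ := x
  congr 1
  show e0 E d f (e0 E d f y) = e0 E d f y
  rw [← Module.End.mul_apply, hid.eq]

include h in
theorem trace_Y (hG : Cfg.Good d E) (hu : (Cfg.sys hG).Uniform f ψ₁) (hm : (Cfg.sys hG).m f ψ₁ = 1)
    {S J : ℕ → Bool} (hS : E.S = S) (hD : D.chkA T S J d = true) {s : F} (hs : s ≠ 0)
    (ha : com T E.S d.th D.a1 = true) :
    trace ℂ W (f (E.x D.a1 s)) = trace ℂ _ (onRange f (e0 E d f) ⟨_, mem_H f ha s⟩) +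
      ((Fintype.card F : ℂ) - 1) * (Fintype.card F : ℂ) * (Fintype.card F : ℂ) ^ (D.still T S d).length := by
  classical
  subst hS
  simp only [TCfg.chkA, Bool.and_eq_true, beq_iff_eq, List.all_eq_true, List.mem_range] at hD
  obtain ⟨⟨⟨⟨⟨⟨⟨⟨⟨⟨⟨⟨h1, h2⟩, h3⟩, h4⟩, h5⟩, h6⟩, -⟩, -⟩, -⟩, -⟩, -⟩, -⟩, -⟩ := hD
  haveI : Fintype ((Fin d.n → F) →ₗ[F] F) := Fintype.ofFinite _
  haveI : Fintype (F × F × (Fin d.n → F) →ₗ[F] F) := Fintype.ofFinite _
  obtain ⟨t, co, ht, htv, hco, hrel⟩ := exists_shift E rfl h4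
  obtain ⟨len, hlen⟩ : ∃ e : ((List.range d.n).map d.c).length = d.n, True := ⟨by simp, trivial⟩
  obtain ⟨t', ht'⟩ : ∃ t' : Fin d.n → Option (Fin d.n), ∀ k, t' k = (t (k.cast len.symm)).map (Fin.cast len) :=
    ⟨_, fun _ => rfl⟩
  have ht'' : ∀ k k', t' k = some k' → t' k' = none := fun k k' e => by
    rw [ht', Option.map_eq_some_iff] at e
    obtain ⟨k₁, e1, rfl⟩ := e
    rw [ht', show (Fin.cast len k₁).cast len.symm = k₁ from rfl, ht _ _ e1, Option.map_none]
  obtain ⟨A, hA⟩ : ∃ A, A = LinearMap.prodMap (LinearMap.id : F →ₗ[F] F)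
      (LinearMap.prodMap (LinearMap.id : F →ₗ[F] F) (shiftMap t' fun k => co (k.cast len.symm) * s)) := ⟨_, rfl⟩
  have hAb : Function.Bijective A := by
    rw [hA, LinearMap.coe_prodMap]
    exact Function.bijective_id.prodMap (by
      rw [LinearMap.coe_prodMap]
      exact Function.bijective_id.prodMap (shiftMap_bijective ht'' _))
  have hconj : ∀ v, E.x D.a1 s * Cfg.Y h.hd v * (E.x D.a1 s)⁻¹ = Cfg.Y h.hd (A v) := by
    refine Cfg.conj_Y h.hd _ A (fun x => ?_) (fun x => ?_) fun j x => ?_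
    · rw [Cfg.conj_of_commute (E.commute h1 x s).symm, hA]; simp [Cfg.Y_th, Prod.zero_eq_mk]
    · rw [Cfg.conj_of_commute (E.commute h2 s x), hA]; simp [Cfg.Y_r0]
    · have e : ((List.range d.n).map d.c).getD (j.cast len.symm : Fin _) 0 = d.c j := by
        simp [List.getD_eq_getElem?_getD]
      rcases hrel s (j.cast len.symm) x with ⟨hn, hc⟩ | ⟨k', hk', hc⟩
      · rcases hc with hc | ⟨r, hr, -⟩
        · rw [e] at hc
          rw [Cfg.conj_of_commute (hc s), hA]
          simp [Cfg.Y_c, shiftMap_single, ht', hn]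
        · simp at hr
      · rw [e, show ((List.range d.n).map d.c).getD (k' : ℕ) 0 = d.c (k'.cast len : Fin d.n) by
          have hk2 : (k' : ℕ) < d.n := by have := k'.2; omega
          simp [List.getD_eq_getElem?_getD, hk2]] at hc
        rw [hc, ← Cfg.Y_c h.hd, ← Cfg.Y_c h.hd, ← AddChar.map_add_eq_mul, hA]
        simp [shiftMap_single, ht', hk', mul_assoc]
  obtain ⟨R, hR⟩ : ∃ R, R = f.compAddChar (Cfg.Y h.hd) := ⟨_, rfl⟩
  have hRv : ∀ v, R v = f (Cfg.Y h.hd v) := fun v => by rw [hR]; rfl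
  -- fixed lines
  have hfix : ∀ k : F, k ≠ 0 → ∀ (a : F) (p : Fin d.n → F),
      (∀ j : Fin d.n, D.hit T E.S d j = true → p j = 0) →
      trace ℂ W (f (E.x D.a1 s) * ReeRep.proj R (ch ψ₁ (lf k a (cf p)))) = 1 := by
    intro k hk a p hp
    have hm1 : ∀ (a : F) (φ : (Fin d.n → F) →ₗ[F] F), mu ψ₁ R (lf k a φ) = 1 := fun a φ => by
      rw [hR]
      exact ((Cfg.sys hG).mu_central f hu hk a φ).trans hm
    rw [trace_mul_proj_of_fixed (l := lf k a (cf p)) ?_, hm1, Nat.cast_one]
    intro x hx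
    obtain ⟨v, hv0, hv⟩ := exists_of_mu_ne_zero (R := R) (ψ₁ := ψ₁) (l := lf k 0 0) (by rw [hm1]; exact one_ne_zero)
    have hva : f (E.x D.a1 s) v = v := by
      rcases hL : run T E.S d.ys D.Lz (d.ys.filter (· != d.th)) [d.th] with _ | res
      · simp [hL] at h6
      simp only [hL, List.contains_iff_mem] at h6
      subst hR
      refine fixes_of_cert h.hd (hm1 0 0) hv0 hv (e := d.th) (fun q hq hne => ?_) hL (fun x => ?_) _ h6 s
      · simp only [Cfg.ys, List.mem_cons, List.mem_map, List.mem_range] at hq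
        intro x
        have hY := eig_apply hv
        rcases hq with rfl | rfl | ⟨j, hj, rfl⟩
        · exact absurd rfl hne
        · have := hY (0, x, 0)
          simpa [Cfg.Y_r0, lf_apply] using this
        · have := hY (0, 0, Pi.single ⟨j, hj⟩ x)
          simpa [Cfg.Y_c, lf_apply] using this
      · exact ⟨_, by simpa [Cfg.Y_th] using eig_apply hv (x, 0, 0)⟩
    obtain ⟨χ, hχ⟩ : ∃ χ : (F × (Fin d.n → F)) →ₗ[F] F,
        χ = k⁻¹ • ((a • LinearMap.id).coprod (cf p)) := ⟨_, rfl⟩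
    obtain ⟨g, hgH, hg⟩ := Cfg.realZ_mem hG (Subgroup.centralizer {E.x D.a1 s}) χ
      (Or.inr fun x => Subgroup.mem_centralizer_singleton_iff.2 (E.commute h3 s x).eq.symm) fun j => by
        by_cases hj : D.hit T E.S d j = true
        · left
          rw [hχ]
          simp [cf, hp j hj, Pi.single_apply]
        · right
          intro x
          refine Subgroup.mem_centralizer_singleton_iff.2 (E.commute (h5 j ?_) s x).eq.symm
          simp [TCfg.still, List.mem_filter, hj]
    have hgc : f (E.x D.a1 s) (f g⁻¹ v) = f g⁻¹ v := by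
      rw [← Module.End.mul_apply, ← map_mul,
        (Subgroup.mem_centralizer_singleton_iff.1 (inv_mem hgH)).symm, map_mul, Module.End.mul_apply, hva]
    have hgv : f g⁻¹ v ∈ range (ReeRep.proj R (ch ψ₁ (lf k a (cf p)))) := by
      refine (mem_range_proj _ _).2 fun w => ?_
      rw [hRv, ← Module.End.mul_apply, ← map_mul, show Cfg.Y h.hd w * g⁻¹ = g⁻¹ * (g * Cfg.Y h.hd w * g⁻¹) by group,
        hg, map_mul, Module.End.mul_apply, ← hRv, eig_apply hv, map_smul, ch_apply]
      congr 2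
      rw [hχ]
      simp [lf_apply, cf]
      field_simp
    have hg0 : f g⁻¹ v ≠ 0 := fun e => hv0 (by
      have e' := congrArg (f g) e
      rwa [map_zero, ← Module.End.mul_apply, ← map_mul, mul_inv_cancel, map_one, Module.End.one_apply] at e')
    obtain ⟨c, rfl⟩ := exists_smul_of_mu_one (hm1 a (cf p)) hgv hg0 hx
    rw [map_smul, hgc]
  have hmov : ∀ k a : F, ∀ p : Fin d.n → F, (∃ j : Fin d.n, D.hit T E.S d j = true ∧ p j ≠ 0) →
      trace ℂ W (f (E.x D.a1 s) * ReeRep.proj R (ch ψ₁ (lf k a (cf p)))) = 0 := by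
    rintro k a p ⟨j, hj, hpj⟩
    refine trace_mul_proj_of_moved (g' := f (E.x D.a1 s)⁻¹) (by rw [← map_mul, mul_inv_cancel, map_one]) hAb
      (fun v => ?_) h.hψ fun e => ?_
    · rw [hRv, hRv, ← hconj, ← map_mul, ← map_mul]
      congr 1
      group
    · simp only [TCfg.hit, List.any_eq_true, List.mem_range, beq_iff_eq] at hj
      obtain ⟨i, hi, hij⟩ := hj
      have e1 := htv (Fin.cast len.symm ⟨i, hi⟩)
      rw [show ((Fin.cast len.symm ⟨i, hi⟩ : Fin _) : ℕ) = i from rfl, hij, Option.map_eq_some_iff] at e1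
      obtain ⟨k₁, e2, e3⟩ := e1
      have e4 : t' ⟨i, hi⟩ = some j := by
        rw [ht', e2, Option.map_some]
        exact congrArg some (Fin.ext e3)
      refine shiftMap_comp_ne (l := cf p) (co := fun k => co (k.cast len.symm) * s) e4 (mul_ne_zero (hco _) hs)
        (by simpa [cf, Pi.single_apply] using hpj) (LinearMap.ext fun w => ?_)
      have e5 := LinearMap.congr_fun e (0, 0, w)
      rw [LinearMap.comp_apply, hA] at e5
      simpa [lf_apply] using e5
  have hsum : f (E.x D.a1 s) = ∑ l : F × F × (Fin d.n → F) →ₗ[F] F, f (E.x D.a1 s) * ReeRep.proj R (ch ψ₁ l) := by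
    rw [← Finset.mul_sum, sum_proj_ch h.hψ, mul_one]
  conv_lhs => rw [hsum, map_sum]
  rw [← Finset.sum_filter_add_sum_filter_not _ (fun l : F × F × (Fin d.n → F) →ₗ[F] F => l (1, 0, 0) = 0)]
  congr 1
  · rw [← trace_C h _ ha, ← map_sum (trace ℂ W), ← Finset.mul_sum]
    congr 2
    have e := proj_restrict (LinearMap.inl F F (F × (Fin d.n → F))).toAddMonoidHom R (0 : AddChar F ℂ)
    have eR : R.compAddMonoidHom (LinearMap.inl F F (F × (Fin d.n → F))).toAddMonoidHom = f.compAddChar (E.x d.th) :=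
      DFunLike.ext _ _ fun x => by
        rw [AddChar.compAddMonoidHom_apply, hRv]
        exact congrArg f (Cfg.Y_th h.hd x)
    rw [eR] at e
    show _ = e0 E d f
    rw [e0, e, Finset.sum_filter, Finset.sum_filter]
    refine Fintype.sum_bijective _ (ch_bijective h.hψ) _ _ fun l => ?_
    have hiff : (ch ψ₁ l).compAddMonoidHom (LinearMap.inl F F (F × (Fin d.n → F))).toAddMonoidHom = 0 ↔
        l (1, 0, 0) = 0 := by
      constructor
      · intro e
        by_contra hne
        refine h.hψ hne (DFunLike.ext _ _ fun x => ?_)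
        have := DFunLike.congr_fun e x
        rw [AddChar.mulShift_apply, AddChar.one_apply]
        rw [AddChar.compAddMonoidHom_apply, ch_apply, AddChar.zero_apply] at this
        rw [← this, mul_comm, ← smul_eq_mul, ← map_smul]
        simp [Prod.zero_eq_mk]
      · intro e
        refine DFunLike.ext _ _ fun x => ?_
        rw [AddChar.compAddMonoidHom_apply, ch_apply, AddChar.zero_apply,
          show (LinearMap.inl F F (F × (Fin d.n → F))).toAddMonoidHom x = x • ((1 : F), (0 : F × (Fin d.n → F))) by simp,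
          map_smul, show ((1 : F), (0 : F × (Fin d.n → F))) = (1, 0, 0) from rfl, e, smul_zero, AddChar.map_zero_eq_one]
    simp only [hiff]
  · rw [Finset.sum_filter, ← Equiv.sum_comp lfEquiv, Fintype.sum_prod_type]
    have hval : ∀ k a : F, ∑ φ : (Fin d.n → F) →ₗ[F] F, (if ¬ (lfEquiv (k, a, φ)) (1, 0, 0) = 0 then
        trace ℂ W (f (E.x D.a1 s) * ReeRep.proj R (ch ψ₁ (lfEquiv (k, a, φ)))) else 0) =
        if k = 0 then 0 else (Fintype.card F : ℂ) ^ (D.still T E.S d).length := by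
      intro k a
      rw [← Equiv.sum_comp cf]
      have e : ∀ p : Fin d.n → F, lfEquiv (k, a, cf p) = lf k a (cf p) := fun p => rfl
      simp only [e, lf_apply, mul_one, mul_zero, map_zero, add_zero]
      by_cases hk : k = 0
      · simp [hk]
      simp only [hk, not_false_iff, if_true, if_false]
      have hv : ∀ p : Fin d.n → F, trace ℂ W (f (E.x D.a1 s) * ReeRep.proj R (ch ψ₁ (lf k a (cf p)))) =
          if p ∈ Fintype.piFinset (fun j : Fin d.n => if D.hit T E.S d j = true then {0} else Finset.univ)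
            then 1 else 0 := by
        intro p
        split_ifs with hp
        · exact hfix k hk a p fun j hj => by
            have := Fintype.mem_piFinset.1 hp j
            simpa [hj] using this
        · refine hmov k a p ?_
          by_contra hno
          push Not at hno
          exact hp (Fintype.mem_piFinset.2 fun j => by split_ifs with hj <;> simp [hno j, hj])
      rw [Finset.sum_congr rfl fun p _ => hv p, Finset.sum_boole, Finset.filter_univ_mem, Fintype.card_piFinset]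
      simp only [apply_ite Finset.card, Finset.card_singleton, Finset.card_univ, Finset.prod_ite,
        Finset.prod_const_one, Finset.prod_const, one_mul, Nat.cast_pow]
      congr 1
      rw [← Finset.card_map Fin.valEmbedding]
      have : (D.still T E.S d).Nodup := List.nodup_range.filter _
      rw [← List.toFinset_card_of_nodup this]
      congr 1
      ext j
      simp only [Finset.mem_map, Finset.mem_filter, Finset.mem_univ, true_and, Fin.valEmbedding_apply,
        TCfg.still, List.mem_toFinset, List.mem_filter, List.mem_range, Bool.not_eq_true', Bool.not_eq_true]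
      exact ⟨fun ⟨a, ha, e⟩ => e ▸ ⟨a.2, ha⟩, fun hj => ⟨⟨j, hj.1⟩, hj.2, rfl⟩⟩
    rw [Finset.sum_congr rfl fun k _ => by rw [Fintype.sum_prod_type, Finset.sum_congr rfl fun a _ => hval k a]]
    simp only [Finset.sum_const, Finset.card_univ, nsmul_eq_mul, mul_ite, mul_zero]
    rw [Finset.sum_ite, Finset.sum_const_zero, zero_add, Finset.sum_const, Finset.filter_ne',
      Finset.card_erase_of_mem (Finset.mem_univ _), Finset.card_univ, nsmul_eq_mul,
      Nat.cast_sub (Fintype.card_pos (α := F))]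
    push_cast
    ring

include h in
/-- A root group shifting the positions. -/
theorem exists_shift_RQ {S : ℕ → Bool} (hS : E.S = S) {b : ℕ} (b3 : com T E.S d.th b = true)
    (b4 : shiftChk T S [d.th] Q.qs b = true) :
    ∃ (t : Fin Q.m → Option (Fin Q.m)) (co : Fin Q.m → F),
      (∀ k k', t k = some k' → t k' = none) ∧ (∀ k, (t k).map Fin.val = tgt T S Q.qs b k) ∧ (∀ k, co k ≠ 0) ∧
        ∀ u v, onRange f (e0 E d f) ⟨_, mem_H f b3 u⟩ * RQ f h.hQ v =
          RQ f h.hQ (shiftMap t (fun k => co k * u) v) * onRange f (e0 E d f) ⟨_, mem_H f b3 u⟩ := by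
  classical
  obtain ⟨t, co, ht, htv, hco, hrel⟩ := exists_shift E hS b4
  refine ⟨t, co, ht, htv, hco, fun u v => ?_⟩
  rw [← Finset.univ_sum_single v]
  refine Finset.sum_induction _ (fun w => onRange f (e0 E d f) ⟨_, mem_H f b3 u⟩ * RQ f h.hQ w =
    RQ f h.hQ (shiftMap t (fun k => co k * u) w) * onRange f (e0 E d f) ⟨_, mem_H f b3 u⟩)
    (fun w w' hw hw' => ?_) (by simp) fun k _ => ?_
  · rw [LinearMap.map_add, AddChar.map_add_eq_mul, AddChar.map_add_eq_mul, ← mul_assoc, hw, mul_assoc, hw', mul_assoc]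
  refine LinearMap.ext fun x => Subtype.ext ?_
  rw [shiftMap_single, RQ_single]
  rcases hrel u k (v k) with ⟨hn, hc⟩ | ⟨k', hk', hc⟩
  · rw [hn, Option.elim_none, add_zero, RQ_single]
    show f (E.x b u) (f (E.x (Q.q k) (v k)) x) = f (E.x (Q.q k) (v k)) (f (E.x b u) x)
    rw [← Module.End.mul_apply, ← Module.End.mul_apply, ← map_mul, ← map_mul]
    rcases hc with hc | ⟨r, hr, y, hc⟩
    · rw [show E.x b u * E.x (Q.q k) (v k) = E.x (Q.q k) (v k) * E.x b u from (hc u).eq]
    · rw [List.mem_singleton] at hr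
      subst hr
      rw [mul_inv_eq_iff_eq_mul] at hc
      rw [show E.x b u * E.x (Q.q k) (v k) = E.x (Q.q k) (v k) * E.x d.th y * E.x b u from hc, map_mul, map_mul, map_mul,
        Module.End.mul_apply, Module.End.mul_apply, Module.End.mul_apply]
      congr 1
      exact (mem_C_iff f _).1 (HP_mapsTo f (e0 E d f) ⟨_, mem_H f b3 u⟩ x.2) y
  · rw [hk', Option.elim_some, AddChar.map_add_eq_mul, RQ_single, RQ_single]
    show f (E.x b u) (f (E.x (Q.q k) (v k)) x) =
      f (E.x (Q.q k) (v k)) (f (E.x (Q.q k') (co k * u * v k)) (f (E.x b u) x))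
    simp only [← Module.End.mul_apply, ← map_mul]
    rw [mul_inv_eq_iff_eq_mul] at hc
    rw [show E.x b u * E.x (Q.q k) (v k) = E.x (Q.q k) (v k) * E.x (Q.q k') (co k * u * v k) * E.x b u from hc]
    simp only [mul_assoc]

include h in
theorem trace_fixed {S J : ℕ → Bool} (hS : E.S = S) (hJ : E.J = J) (hD : D.chkB T S J d Q fx = true) {s : F}
    (hs : s ≠ 0) (ha : com T E.S d.th D.a2 = true) :
    trace ℂ _ (onRange f (e0 E d f) ⟨_, mem_H f ha s⟩) =
      trace ℂ _ (onRange f (e0 E d f) ⟨_, mem_H f ha s⟩ * ReeRep.proj (RQ f h.hQ) (ch ψ₁ 0)) +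
      ((Fintype.card F : ℂ) - 1) * ∑ i : Fin Q.m,
        (if D.fixCase T S d Q fx i = true then (Fintype.card F : ℂ) ^ (Q.free T d i).length else 0) := by
  classical
  subst hS hJ
  simp only [TCfg.chkB, Bool.and_eq_true, beq_iff_eq, List.all_eq_true, List.mem_range] at hD
  obtain ⟨-, h15⟩ := hD
  haveI : Fintype ((Fin Q.m → F) →ₗ[F] F) := Fintype.ofFinite _
  obtain ⟨R, hR⟩ : ∃ R, R = RQ f h.hQ := ⟨_, rfl⟩
  obtain ⟨g, hg⟩ : ∃ g, g = onRange f (e0 E d f) ⟨_, mem_H f ha s⟩ := ⟨_, rfl⟩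
  rw [← hg, ← hR]
  conv_lhs => rw [← mul_one g, ← sum_proj_ch h.hψ R, Finset.mul_sum, map_sum, sum_split]
  congr 1
  rw [Finset.mul_sum]
  refine Finset.sum_congr rfl fun i _ => ?_
  obtain ⟨⟨⟨⟨b1, b2⟩, b3⟩, b4⟩, b5⟩ := h15 i i.2
  obtain ⟨b, hb⟩ : ∃ b, b = D.pre T Q i := ⟨_, rfl⟩
  have hfcd : D.fixCase T E.S d Q fx i = (fx.contains b && (Q.free T d i).all fun j => com T E.S b (d.u j)) := by
    rw [hb]; rfl
  rw [← hb] at b1 b2 b3 b4
  rw [hfcd, ← hb] at b5
  simp only [hfcd]
  obtain ⟨u, hu⟩ : ∃ u, u = (Grp.wSign T (Q.word i) b : F) * s := ⟨_, rfl⟩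
  have hu0 : u ≠ 0 := by
    rw [hu]
    rcases Grp.wSign_sq (T := T) (Q.word i) b with e | e <;> simp [e, hs]
  obtain ⟨ν, hν⟩ : ∃ ν, ν = (⟨_, nw_mem h i⟩ : HP f (e0 E d f)) := ⟨_, rfl⟩
  obtain ⟨g', hg'⟩ : ∃ g', g' = onRange f (e0 E d f) ⟨_, mem_H f b3 u⟩ := ⟨_, rfl⟩
  have hgg : g * onRange f _ ν = onRange f _ ν * g' := by
    rw [hg, hg', ← map_mul, ← map_mul, hν]
    congr 1
    refine Subtype.ext ?_
    show E.x D.a2 s * E.nw (Q.word i) = E.nw (Q.word i) * E.x b u
    rw [mul_inv_eq_iff_eq_mul.1 (E.nw_conj b1 u), b2, hu, ← mul_assoc]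
    rcases Grp.wSign_sq (T := T) (Q.word i) b with e | e <;> simp [e]
  have hval : ∀ l : (Fin Q.m → F) →ₗ[F] F, trace ℂ _ (g * ReeRep.proj R (ch ψ₁ l)) =
      trace ℂ _ (g' * ReeRep.proj R (ch ψ₁ (l ∘ₗ perm h i))) := by
    intro l
    have e : onRange f _ ν * ReeRep.proj R (ch ψ₁ (l ∘ₗ perm h i)) =
        ReeRep.proj R (ch ψ₁ l) * onRange f _ ν := by
      have hc := ReeRep.conj_proj (R := R) (g := onRange f _ ν) (g' := onRange f _ ν⁻¹)
        (c := (perm h i).toAddMonoidHom) (perm_bijective h i) (fun v => by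
          rw [hR, mul_assoc, show RQ f h.hQ ((perm h i).toAddMonoidHom v) * onRange f _ ν = onRange f _ ν * RQ f h.hQ v from by
            subst hν; exact (RQ_perm h i v).symm, ← mul_assoc, ← map_mul, inv_mul_cancel, map_one, one_mul]) (ch ψ₁ l)
      rw [show ch ψ₁ (l ∘ₗ perm h i) = (ch ψ₁ l).compAddMonoidHom (perm h i).toAddMonoidHom from rfl, ← hc,
        ← mul_assoc, ← mul_assoc, ← map_mul, mul_inv_cancel, map_one, one_mul]
    have e2 : g * ReeRep.proj R (ch ψ₁ l) =
        onRange f _ ν * (g' * ReeRep.proj R (ch ψ₁ (l ∘ₗ perm h i))) * onRange f _ ν⁻¹ := by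
      rw [← mul_assoc, ← hgg, mul_assoc g, e, ← mul_assoc, mul_assoc _ (onRange f _ ν), ← map_mul, mul_inv_cancel,
        map_one, mul_one]
    rw [e2, trace_mul_comm, ← mul_assoc, ← map_mul, inv_mul_cancel, map_one, one_mul]
  obtain ⟨t, co, ht, htv, hco, hkey⟩ := exists_shift_RQ h rfl b3 b4
  have hshift : ∀ v, onRange f (e0 E d f) (⟨_, mem_H f b3 u⟩)⁻¹ *
      R (shiftMap t (fun k => co k * u) v) * g' = R v := by
    intro v
    rw [hR, hg', mul_assoc, ← hkey u v, ← mul_assoc, ← map_mul, inv_mul_cancel, map_one, one_mul]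
  by_cases hfc : (fx.contains b && (Q.free T d i).all fun j => com T E.S b (d.u j)) = true
  · rw [if_pos hfc]
    simp only [Bool.and_eq_true, List.contains_iff_mem, List.all_eq_true] at hfc
    have hone : ∀ l : (Fin Q.m → F) →ₗ[F] F, l (Pi.single i 1) ≠ 0 → (∀ k < i, l (Pi.single k 1) = 0) →
        trace ℂ _ (g * ReeRep.proj R (ch ψ₁ l)) = (mu ψ₁ R l : ℂ) := by
      intro l hl1 hl2
      rw [hval, trace_mul_proj_of_fixed (R := R) (ψ₁ := ψ₁) (l := l ∘ₗ perm h i) ?_, hR, mu_perm h]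
      intro x hx
      refine Subtype.ext ?_
      rw [hg']
      show f (E.x b u) (x : W) = x
      obtain ⟨l', hl'⟩ : ∃ l', l' = l ∘ₗ perm h i := ⟨_, rfl⟩
      rw [← hl'] at hx
      have hcoord : ∀ k : Fin Q.m, l' (Pi.single k 1) = (Grp.wSign T (Q.word i) (Q.q k) : F) *
          l (Pi.single ⟨Q.sig T i k, h.hQ.sig_lt i k⟩ 1) := fun k => by
        rw [hl', LinearMap.comp_apply, perm_single h, mul_one,
          show (Pi.single ⟨Q.sig T i k, h.hQ.sig_lt i k⟩ (Grp.wSign T (Q.word i) (Q.q k) : F) : Fin Q.m → F) =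
            (Grp.wSign T (Q.word i) (Q.q k) : F) • Pi.single ⟨Q.sig T i k, h.hQ.sig_lt i k⟩ 1 by
            rw [← Pi.single_smul, smul_eq_mul, mul_one], map_smul, smul_eq_mul]
      obtain ⟨φ, hφ⟩ : ∃ φ : Fin d.n → F, ∀ j, φ j = l' (Pi.single ⟨Q.kc j, h.hQ.kc_lt j⟩ 1) := ⟨_, fun _ => rfl⟩
      obtain ⟨a, hadef⟩ : ∃ a, a = l' (Pi.single ⟨Q.k0, h.hQ.k0_lt⟩ 1) := ⟨_, rfl⟩
      have ha0 : a ≠ 0 := by
        rw [hadef, hcoord, show (⟨Q.sig T i Q.k0, h.hQ.sig_lt i ⟨Q.k0, h.hQ.k0_lt⟩⟩ : Fin Q.m) = i from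
          Fin.ext (h.hQ.sig_k0 i)]
        refine mul_ne_zero ?_ hl1
        rcases Grp.wSign_sq (T := T) (Q.word i) (Q.q Q.k0) with e | e <;> simp [e]
      have hφ0 : ∀ j : Fin d.n, Q.sig T i (Q.kc j) < i → φ j = 0 := fun j hj => by
        rw [hφ, hcoord, hl2 _ hj, mul_zero]
      have hkf : l' ∘ₗ emb h.hQ = kf (a, φ) := kf.symm.injective (by
        rw [Equiv.symm_apply_apply]
        refine Prod.ext ?_ (funext fun j => ?_)
        · show l' (emb h.hQ (1, 0)) = a
          rw [emb_left, hadef]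
        · show l' (emb h.hQ (0, Pi.single j 1)) = φ j
          rw [emb_right, hφ])
      have hxY : (x : W) ∈ range (ReeRep.proj (f.compAddChar (Cfg.Y h.hd)) (ch ψ₁ (yf (a, φ)))) := by
        refine (mem_range_proj _ _).2 fun v => ?_
        show f (Cfg.Y h.hd v) (x : W) = _
        subst hR
        have e2 := congrArg Subtype.val (eig_apply hx (emb h.hQ v.2))
        erw [RQ_emb f h.hQ h.hd] at e2
        rw [show v = (v.1, 0, 0) + (0, v.2.1, v.2.2) by ext <;> simp, AddChar.map_add_eq_mul, map_mul,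
          Module.End.mul_apply]
        erw [e2]
        rw [SetLike.val_smul, map_smul, Cfg.Y_th, (mem_C_iff f (x : W)).1 x.2, ← LinearMap.comp_apply, hkf, ch_apply,
          yf_apply]
        simp [kf]
      obtain ⟨v, c, s', hs', hvfx, hxe⟩ := exists_translate h a ha0 i hφ0 hxY
      have hcm : Commute (E.x b u) (Cfg.U h.hd s') := by
        rw [← Finset.univ_sum_single s']
        refine Finset.sum_induction _ (fun w => Commute (E.x b u) (Cfg.U h.hd w))
          (fun w w' hw hw' => by rw [AddChar.map_add_eq_mul]; exact hw.mul_right hw')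
          (by rw [AddChar.map_zero_eq_one]; exact Commute.one_right _) fun j _ => ?_
        rw [Cfg.U_single]
        by_cases hj : Q.sig T i (Q.kc j) < i
        · rw [hs' j hj, AddChar.map_zero_eq_one]; exact Commute.one_right _
        · refine E.commute (hfc.2 j ?_) _ _
          simp only [QCfg.free, List.mem_filter, List.mem_range, Bool.not_eq_true', Bool.eq_false_iff, ne_eq, nat_blt]
          exact ⟨j.2, hj⟩
      rw [hxe, map_smul, ← Module.End.mul_apply, ← map_mul, hcm.inv_right.eq, map_mul, Module.End.mul_apply,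
        hvfx b hfc.1]
    rw [Finset.sum_congr rfl fun l hl => hone l (Finset.mem_filter.1 hl).2.1 (Finset.mem_filter.1 hl).2.2,
      ← Nat.cast_sum]
    have e := cell_sum h i fun _ => True
    simp only [and_true, implies_true] at e
    rw [hR, e, sum_sel h i]
    push_cast [Nat.cast_sub (Fintype.card_pos (α := F))]
    ring
  · rw [if_neg hfc, mul_zero]
    refine Finset.sum_eq_zero fun l hl => ?_
    obtain ⟨-, hl1, -⟩ := Finset.mem_filter.1 hl
    simp only [Bool.or_eq_true, List.any_eq_true, List.mem_range, beq_iff_eq] at b5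
    obtain ⟨j, hj, hjt⟩ := b5.resolve_left hfc
    have hk : t ⟨Q.kc j, h.hQ.kc_lt ⟨j, hj⟩⟩ = some ⟨Q.k0, h.hQ.k0_lt⟩ := by
      have e1 := htv ⟨Q.kc j, h.hQ.kc_lt ⟨j, hj⟩⟩
      rw [hjt, Option.map_eq_some_iff] at e1
      obtain ⟨k₁, e2, e3⟩ := e1
      rw [e2]
      exact congrArg some (Fin.ext e3)
    rw [hval]
    refine trace_mul_proj_of_moved (g' := onRange f _ (⟨_, mem_H f b3 u⟩)⁻¹)
      (by rw [hg', ← map_mul, mul_inv_cancel, map_one]) (shiftMap_bijective ht _) hshift h.hψ ?_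
    refine shiftMap_comp_ne hk (mul_ne_zero (hco _) hu0) ?_
    rw [LinearMap.comp_apply, perm_single h, mul_one,
      show (Pi.single ⟨Q.sig T i Q.k0, h.hQ.sig_lt i ⟨Q.k0, h.hQ.k0_lt⟩⟩
        (Grp.wSign T (Q.word i) (Q.q Q.k0) : F) : Fin Q.m → F) =
        (Grp.wSign T (Q.word i) (Q.q Q.k0) : F) • Pi.single i 1 by
        rw [show (⟨Q.sig T i Q.k0, h.hQ.sig_lt i ⟨Q.k0, h.hQ.k0_lt⟩⟩ : Fin Q.m) = i from Fin.ext (h.hQ.sig_k0 i),
          ← Pi.single_smul, smul_eq_mul, mul_one],
      map_smul, smul_eq_mul]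
    refine mul_ne_zero ?_ hl1
    rcases Grp.wSign_sq (T := T) (Q.word i) (Q.q Q.k0) with e | e <;> simp [e]

include h in
/-- The trace of a root element of the Levi complement on the fixed space of the radical. -/
theorem trace_diff (hG : Cfg.Good d E) (hu : (Cfg.sys hG).Uniform f ψ₁) (hm : (Cfg.sys hG).m f ψ₁ = 1)
    {S J : ℕ → Bool} (hS : E.S = S) (hJ : E.J = J) (hA : D.chkA T S J d = true)
    (hB : D.chkB T S J d Q fx = true) {s : F} (hs : s ≠ 0) (ha : com T E.S d.th D.a2 = true) :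
    trace ℂ _ (onRange f (e0 E d f) ⟨_, mem_H f ha s⟩ * ReeRep.proj (RQ f h.hQ) (ch ψ₁ 0)) =
      (mu ψ₁ (RQ f h.hQ) 0 : ℂ) - ((Fintype.card F : ℂ) * (Fintype.card F : ℂ) ^ d.n +
        ((Fintype.card F : ℂ) - 1) * ((Fintype.card F : ℂ) * (Fintype.card F : ℂ) ^ (D.still T S d).length +
          ∑ i : Fin Q.m, (if D.fixCase T S d Q fx i = true then (Fintype.card F : ℂ) ^ (Q.free T d i).length else 0) -
          ∑ i : Fin Q.m, (Fintype.card F : ℂ) ^ (Q.free T d i).length)) := by
  classical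
  have hA' := hA
  subst hS hJ
  simp only [TCfg.chkA, Bool.and_eq_true, beq_iff_eq] at hA'
  obtain ⟨⟨⟨⟨⟨⟨⟨⟨⟨⟨⟨⟨h1, -⟩, -⟩, -⟩, -⟩, -⟩, h9⟩, h10⟩, h11⟩, h12⟩, h13⟩, h14⟩, h15⟩ := hA'
  have hw : ∀ {w : List ℕ} {a : ℕ}, Grp.wordOK T E.S E.J w a = true → ∀ t,
      E.x (T.rw' w a) ((Grp.wSign T w a : F) * t) = E.nw w * E.x a t * (E.nw w)⁻¹ := fun hw t => (E.nw_conj hw t).symm
  have ha1 : com T E.S d.th D.a1 = true := h1
  obtain ⟨p, hp⟩ : ∃ p, p = (Grp.wSign T D.wa D.a1 : F) * s := ⟨_, rfl⟩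
  have hp0 : p ≠ 0 := by rw [hp]; rcases Grp.wSign_sq (T := T) D.wa D.a1 with e | e <;> simp [e, hs]
  have hps : (Grp.wSign T D.wa D.a1 : F) * p = s := by
    rw [hp]; rcases Grp.wSign_sq (T := T) D.wa D.a1 with e | e <;> simp [e]
  obtain ⟨z, hz⟩ : ∃ z, z = (Grp.wSign T D.wz D.a1 : F) * p := ⟨_, rfl⟩
  have hz0 : z ≠ 0 := by rw [hz]; rcases Grp.wSign_sq (T := T) D.wz D.a1 with e | e <;> simp [e, hp0]
  have e1 : trace ℂ W (f (E.x D.a1 p)) = trace ℂ W (f (E.x d.th z)) := by
    rw [hz, ← h15, hw h14, map_mul f, map_mul f, trace_mul_comm, ← mul_assoc, ← map_mul f, inv_mul_cancel, map_one f, one_mul]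
  have hnH : E.nw D.wa ∈ HP f (e0 E d f) := by
    refine mem_HP_proj f (fun t => ?_) 0
    have e := E.nw_conj h11 t
    rw [h12, h13, Int.cast_one, one_mul, mul_inv_eq_iff_eq_mul] at e
    exact (show Commute (E.nw D.wa) (E.x d.th t) from e).map f
  have e2 : trace ℂ _ (onRange f (e0 E d f) ⟨_, mem_H f ha s⟩) =
      trace ℂ _ (onRange f (e0 E d f) ⟨_, mem_H f h1 p⟩) := by
    rw [show (⟨_, mem_H f ha s⟩ : HP f (e0 E d f)) = ⟨_, hnH⟩ * ⟨_, mem_H f h1 p⟩ * (⟨_, hnH⟩)⁻¹ from
      Subtype.ext (by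
        show E.x D.a2 s = E.nw D.wa * E.x D.a1 p * (E.nw D.wa)⁻¹
        rw [← hps, ← h10, hw h9]),
      map_mul (onRange f (e0 E d f)), map_mul (onRange f (e0 E d f)), trace_mul_comm, ← mul_assoc,
      ← map_mul (onRange f (e0 E d f)), inv_mul_cancel, map_one (onRange f (e0 E d f)), one_mul]
  have e4 := trace_fixed h rfl rfl hB hs ha
  rw [e2] at e4
  have e5 := trace_Y h hG hu hm rfl hA hp0 h1
  rw [e1, trace_Z h hG hu hm hz0, finrank_fixed h, e4] at e5
  have hq : 1 ≤ Fintype.card F := Fintype.card_pos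
  push_cast [Nat.cast_sub hq] at e5 ⊢
  linear_combination -e5

include h in
/-- A root element of the Levi complement moves a vector fixed by the radical, unless an identity holds. -/
theorem exists_moved (hG : Cfg.Good d E) (hu : (Cfg.sys hG).Uniform f ψ₁) (hm : (Cfg.sys hG).m f ψ₁ = 1)
    {S J : ℕ → Bool} (hS : E.S = S) (hJ : E.J = J) (hA : D.chkA T S J d = true)
    (hB : D.chkB T S J d Q fx = true)
    (hne : (Fintype.card F - 1) * (Fintype.card F * Fintype.card F ^ (D.still T S d).length +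
        ∑ i : Fin Q.m, if D.fixCase T S d Q fx i = true then Fintype.card F ^ (Q.free T d i).length else 0) +
        Fintype.card F * Fintype.card F ^ d.n ≠
      (Fintype.card F - 1) * ∑ i : Fin Q.m, Fintype.card F ^ (Q.free T d i).length) :
    ∃ (s : F) (x : range (e0 E d f)), x ∈ range (ReeRep.proj (RQ f h.hQ) (ch ψ₁ 0)) ∧
      f (E.x D.a2 s) (x : W) ≠ (x : W) := by
  classical
  by_contra hno
  push Not at hno
  have ha : com T E.S d.th D.a2 = true := by
    have hB' := hB
    simp only [TCfg.chkB, Bool.and_eq_true] at hB'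
    rw [hS]; exact hB'.1.1
  have e := trace_diff h hG hu hm hS hJ hA hB one_ne_zero ha
  rw [trace_mul_proj_of_fixed fun x hx => Subtype.ext (hno 1 x hx)] at e
  refine hne ?_
  have hq : 1 ≤ Fintype.card F := Fintype.card_pos
  rw [← Nat.cast_inj (R := ℂ)]
  unfold mu at e
  push_cast [Nat.cast_sub hq] at e ⊢
  linear_combination e

end Ctx

/-- The trace on the image of a commuting idempotent. -/
theorem trace_onRange {G W : Type*} [Group G] [AddCommGroup W] [Module ℂ W] [FiniteDimensional ℂ W]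
    (f : G →* Module.End ℂ W) {P : Module.End ℂ W} (hP : IsIdempotentElem P) (g : HP f P) :
    trace ℂ _ (onRange f P g) = trace ℂ W (f g * P) := by
  have hc : f (g : G) * P = P * f (g : G) := g.2
  have hmem : ∀ x, (f (g : G) * P) x ∈ range P := fun x => by
    rw [hc]; exact ⟨_, rfl⟩
  rw [← LinearMap.trace_restrict_eq_of_forall_mem (range P) _ hmem]
  congr 1
  refine LinearMap.ext fun x => Subtype.ext ?_
  show f (g : G) x = f (g : G) (P x)
  obtain ⟨x, y, rfl⟩ := x
  congr 1
  show P y = P (P y)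
  rw [← Module.End.mul_apply, hP.eq]

/-- Multiplicities of the nontrivial characters of a one-parameter group with constant trace. -/
theorem mult_of_trace {F W : Type*} [Field F] [Fintype F] [AddCommGroup W] [Module ℂ W] [FiniteDimensional ℂ W]
    {ψ₁ : AddChar F ℂ} (hψ₁ : ψ₁.IsPrimitive) (R : AddChar F (Module.End ℂ W)) {M : ℕ}
    (h : ∀ s : F, s ≠ 0 → trace ℂ W (R s) = (finrank ℂ W : ℂ) - (Fintype.card F : ℂ) * M) {d : F} (hd : d ≠ 0) :
    ReeRep.mult R (ψ₁.mulShift d) = M := by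
  classical
  have e : trace ℂ W (ReeRep.proj R (ψ₁.mulShift d)) = (M : ℂ) := by
    have hs : ∀ s, (ψ₁.mulShift d) (-s) * trace ℂ W (R s) = (ψ₁.mulShift d) (-s) *
        ((finrank ℂ W : ℂ) - (Fintype.card F : ℂ) * M) + if s = 0 then (Fintype.card F : ℂ) * M else 0 := by
      intro s
      rcases eq_or_ne s 0 with rfl | h0
      · simp [AddChar.map_zero_eq_one, LinearMap.trace_one]
      · rw [h s h0, if_neg h0, add_zero]
    have h0 : ∑ s, (ψ₁.mulShift d) (-s) = 0 := by
      rw [Fintype.sum_equiv (Equiv.neg F) (fun s => (ψ₁.mulShift d) (-s)) (fun s => (ψ₁.mulShift d) s) fun s => rfl]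
      exact AddChar.sum_eq_zero_of_ne_one (hψ₁ hd)
    simp only [ReeRep.proj, map_smul, map_sum, smul_eq_mul, hs, Finset.sum_add_distrib, ← Finset.sum_mul, h0,
      zero_mul, zero_add, Finset.sum_ite_eq', Finset.mem_univ, if_true]
    rw [← mul_assoc, inv_mul_cancel₀ (Nat.cast_ne_zero.2 Fintype.card_ne_zero), one_mul]
  rw [ReeRep.trace_proj] at e
  exact_mod_cast e

end Cfsg.Agent.Heis
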