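/-
A special linear group inside the Levi complement, acting on the fixed space of the radical.
-/
import Cfsg.Agent.Lib.MinDegree.Heis.Trace
import Cfsg.Agent.Lib.SLPres.Main
import Cfsg.Agent.Lib.Char.Basic
import Cfsg.Agent.S2332

set_option autoImplicit false

namespace Cfsg.Agent.Heis

open LinearMap Module Cfsg.Agent.Chev Cfsg.Agent.Chev.Tab
open scoped commutatorElement

universe u v

/-- A nontrivial representation has a nontrivial irreducible constituent. -/
theorem exists_irr_of_ne_one {G : Type u} [Group G] [Finite G] (V : Type v) [AddCommGroup V] [Module ℂ V]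
    [FiniteDimensional ℂ V] (ρ : Representation ℂ G V) :
    (∃ g, ρ g ≠ 1) → ∃ (k : ℕ) (σ : Representation ℂ G (Fin k → ℂ)), σ.IsIrreducible ∧ k ≤ finrank ℂ V ∧
      ∃ g, σ g ≠ 1 := by
  refine Char.rep_induction (G := G) (P := fun V _ _ _ ρ => (∃ g, ρ g ≠ 1) → ∃ (k : ℕ)
    (σ : Representation ℂ G (Fin k → ℂ)), σ.IsIrreducible ∧ k ≤ finrank ℂ V ∧ ∃ g, σ g ≠ 1) ?_ ?_ ?_ V ρ
  · intro V _ _ _ _ ρ ⟨g, hg⟩
    exact absurd (LinearMap.ext fun x => Subsingleton.elim _ _) hg
  · intro V _ _ _ ρ _ ⟨g, hg⟩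
    refine ⟨_, Char.coordRep ρ, Char.isIrreducible_of_equiv (Char.transportEquiv _ _), le_rfl, g, fun e => hg ?_⟩
    refine LinearMap.ext fun x => (Module.finBasis ℂ V).equivFun.injective ?_
    have := LinearMap.congr_fun e ((Module.finBasis ℂ V).equivFun x)
    rw [Char.coordRep, Char.transport_apply, LinearEquiv.symm_apply_apply] at this
    simpa using this
  · intro V _ _ _ ρ a b hab ha hb ⟨g, hg⟩
    have hsum := Submodule.finrank_add_eq_of_isCompl (Char.isCompl_toSubmodule hab)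
    by_cases h1 : a.toRepresentation g ≠ 1
    · obtain ⟨k, σ, h, hk, hne⟩ := ha ⟨g, h1⟩
      exact ⟨k, σ, h, by omega, hne⟩
    by_cases h2 : b.toRepresentation g ≠ 1
    · obtain ⟨k, σ, h, hk, hne⟩ := hb ⟨g, h2⟩
      exact ⟨k, σ, h, by omega, hne⟩
    refine absurd (LinearMap.ext fun x => ?_) hg
    push Not at h1 h2
    obtain ⟨y, hy, z, hz, rfl⟩ := Submodule.mem_sup.1 ((Char.isCompl_toSubmodule hab).sup_eq_top ▸ Submodule.mem_top (x := x))
    have e1 : ρ g y = y := congrArg Subtype.val (LinearMap.congr_fun h1 ⟨y, hy⟩)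
    have e2 : ρ g z = z := congrArg Subtype.val (LinearMap.congr_fun h2 ⟨z, hz⟩)
    rw [map_add, e1, e2, Module.End.one_apply]

/-- The minimal degree of the special linear group, for a representation of any type. -/
theorem sl_bound {F : Type*} [Field F] [Fintype F] [DecidableEq F] {n : ℕ} (hn : 5 ≤ n) {V : Type*}
    [AddCommGroup V] [Module ℂ V] [FiniteDimensional ℂ V]
    (ρ : Representation ℂ (Matrix.SpecialLinearGroup (Fin n) F) V) (hρ : ∃ g, ρ g ≠ 1) :
    (Fintype.card F ^ n - Fintype.card F) / (Fintype.card F - 1) ≤ finrank ℂ V := by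
  obtain ⟨k, σ, hσ, hk, g, hg⟩ := exists_irr_of_ne_one V ρ hρ
  refine le_trans ((S2332.result n (by omega) ⟨by simp [Prod.ext_iff]; omega, by simp [Prod.ext_iff]; omega,
    by simp [Prod.ext_iff]; omega, by simp [Prod.ext_iff]; omega⟩).1 k σ hσ ?_) hk
  by_contra hk2
  refine hg ?_
  have hcomm : ∀ a b : Module.End ℂ (Fin k → ℂ), a * b = b * a := by
    intro a b
    have hle : finrank ℂ (Fin k → ℂ) ≤ 1 := by rw [Module.finrank_fin_fun]; omega
    obtain ⟨v, hv⟩ := finrank_le_one_iff.1 hle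
    refine LinearMap.ext fun x => ?_
    obtain ⟨c, rfl⟩ := hv x
    obtain ⟨ca, hca⟩ := hv (a v)
    obtain ⟨cb, hcb⟩ := hv (b v)
    simp only [Module.End.mul_apply, map_smul, ← hca, ← hcb, smul_smul]
    rw [mul_comm cb ca]
  have hgen : ∀ i j : Fin n, i ≠ j → ∀ c : F, σ ((SLPres.slData n F).y i j c) = 1 := by
    intro i j hij c
    obtain ⟨l, hl⟩ : ∃ l : Fin n, l ≠ i ∧ l ≠ j := by
      by_contra hall
      push Not at hall
      have hsub : (Finset.univ : Finset (Fin n)) ⊆ {i, j} := fun l _ => by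
        by_cases h : l = i
        · simp [h]
        · simp [hall l h]
      have := Finset.card_le_card hsub
      rw [Finset.card_univ, Fintype.card_fin, Finset.card_pair hij] at this
      omega
    have e := (SLPres.slData n F).brac hl.1.symm hl.2 hij c 1
    rw [mul_one] at e
    rw [← e, commutatorElement_def, map_mul, map_mul, map_mul, hcomm (σ _) (σ _), mul_assoc (σ _) _ _,
      ← map_mul, mul_inv_cancel, map_one, mul_one, ← map_mul, mul_inv_cancel, map_one]
  haveI : Nontrivial (Fin n) := Fin.nontrivial_iff_two_le.2 (by omega)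
  clear hg
  induction (ClassicalSL.closure_elemTransvections (ι := Fin n) (F := F)).ge (Subgroup.mem_top g)
    using Subgroup.closure_induction with
  | mem y hy =>
    obtain ⟨i, j, h, c, rfl⟩ := hy
    rw [← SLPres.slData_y h]
    exact hgen i j h c
  | one => exact map_one σ
  | mul a b _ _ ha hb => rw [map_mul, ha, hb, one_mul]
  | inv a _ ha =>
    have := congrArg σ (inv_mul_cancel a)
    rwa [map_mul, map_one, ha, mul_one] at this

/-- The presentation of the special linear group, as an equivalence. -/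
theorem exists_equiv {F : Type*} [Field F] [Finite F] {n : ℕ} (hn : 3 ≤ n) :
    ∃ e : PresentedGroup (SLPres.rels n F) ≃* Matrix.SpecialLinearGroup (Fin n) F,
      ∀ (a : {ij : Fin n × Fin n // ij.1 ≠ ij.2}) (t : F),
        e (PresentedGroup.of (a, t)) = Matrix.SpecialLinearGroup.transvection a.2 t := by
  obtain ⟨r, rfl⟩ : ∃ r, n = r + 2 := ⟨n - 2, by omega⟩
  obtain ⟨π, hπ⟩ := SLPres.exists_toSL (r + 2) F
  exact ⟨MulEquiv.ofBijective π (SLPres.toSL_bijective r (by omega) π hπ), hπ⟩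

variable {T : Tab} {F G : Type*} [Field F] [Group G]

/-- Steinberg root data on roots of the table, with signs. -/
structure LCfg where
  n : ℕ
  rt : ℕ → ℕ → ℕ
  sg : ℕ → ℕ → ℤ

/-- checks -/
def LCfg.chk (Lc : LCfg) (T : Tab) (S : ℕ → Bool) (d : Cfg) (Q : QCfg) : Bool :=
  (List.range Lc.n).all fun i => (List.range Lc.n).all fun j => i == j ||
    (com T S d.th (Lc.rt i j) && shiftChk T S [d.th] Q.qs (Lc.rt i j) && (Lc.sg i j == 1 || Lc.sg i j == -1) &&
      ((List.range Lc.n).all fun k => (List.range Lc.n).all fun l => k == l || l == i || j == k ||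
        com T S (Lc.rt i j) (Lc.rt k l)) &&
      (List.range Lc.n).all fun l => j == l || i == l ||
        (bra T S (Lc.rt i j) (Lc.rt j l) (Lc.rt i l) &&
          match sumR T (Lc.rt i j) (Lc.rt j l) with
          | some (_, C) => C * Lc.sg i j * Lc.sg j l == Lc.sg i l
          | none => false))

theorem Grp.bracket_comm (E : Grp T F G) {a b r : ℕ} {C : ℤ} (h : bra T E.S a b r = true)
    (hs : sumR T a b = some (r, C)) (t u : F) :
    ⁅E.x a t, E.x b u⁆ = E.x r ((C : F) * t * u) := by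
  simp only [bra, Bool.and_eq_true, bne_iff_ne, nat_blt] at h
  obtain ⟨⟨⟨⟨⟨⟨⟨⟨ha, hb⟩, han⟩, hbn⟩, hab⟩, h2⟩, -⟩, har⟩, hbr⟩ := h
  have he : T.cTerms a b = [(r, C, 1, 1)] := by
    revert hs
    unfold sumR
    split <;> simp_all
  have e := E.comm a b ha hb han hbn (Ne.symm hab) h2 t u
  rw [cVal, he] at e
  simp only [List.map_cons, List.map_nil, List.prod_cons, List.prod_nil, mul_one, pow_one] at e
  have e' : E.x b u * E.x a t = E.x a t * E.x b u * E.x r ((C : F) * -t * u) := e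
  have e2 : E.x a t * E.x b u = E.x r ((C : F) * t * u) * (E.x b u * E.x a t) := by
    rw [← ((E.commute hbr u _).mul_left (E.commute har t _)).eq, e', mul_assoc (E.x a t * E.x b u),
      ← AddChar.map_add_eq_mul, show (C : F) * -t * u + (C : F) * t * u = 0 by ring, AddChar.map_zero_eq_one, mul_one]
  rw [commutatorElement_def, e2]
  group

variable {W : Type*} [AddCommGroup W] [Module ℂ W] [FiniteDimensional ℂ W] [Fintype F]
variable {d : Cfg} {E : Grp T F G} {Q : QCfg} {fx : List ℕ} {f : G →* Module.End ℂ W} {ψ₁ : AddChar F ℂ}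
variable (h : Ctx d E Q fx f ψ₁)

namespace Ctx

include h in
theorem mem_H2 {S : ℕ → Bool} (hS : E.S = S) {b : ℕ} (b3 : com T E.S d.th b = true)
    (b4 : shiftChk T S [d.th] Q.qs b = true) (u : F) :
    (⟨_, mem_H f b3 u⟩ : HP f (e0 E d f)) ∈ HP (onRange f (e0 E d f)) (ReeRep.proj (RQ f h.hQ) (ch ψ₁ 0)) := by
  classical
  obtain ⟨t, co, ht, -, -, hkey⟩ := exists_shift_RQ h hS b3 b4
  obtain ⟨g, hg⟩ : ∃ g, g = (⟨_, mem_H f b3 u⟩ : HP f (e0 E d f)) := ⟨_, rfl⟩
  obtain ⟨A, hA⟩ : ∃ A, A = shiftMap t (fun k => co k * u) := ⟨_, rfl⟩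
  have hc := ReeRep.conj_proj (R := RQ f h.hQ) (g := onRange f _ g) (g' := onRange f _ g⁻¹)
    (c := A.toAddMonoidHom) (hA ▸ shiftMap_bijective ht _) (fun v => by
      rw [mul_assoc, show RQ f h.hQ (A.toAddMonoidHom v) * onRange f _ g = onRange f _ g * RQ f h.hQ v from by
        subst hg hA; exact (hkey u v).symm, ← mul_assoc, ← map_mul, inv_mul_cancel, map_one, one_mul]) (ch ψ₁ 0)
  have e0' : (ch ψ₁ (0 : (Fin Q.m → F) →ₗ[F] F)).compAddMonoidHom A.toAddMonoidHom = ch ψ₁ 0 :=
    DFunLike.ext _ _ fun v => by simp [ch_apply]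
  rw [e0'] at hc
  rw [← hg, mem_HP]
  show onRange f _ g * _ = _ * onRange f _ g
  conv_lhs => rw [← hc]
  rw [← mul_assoc, ← mul_assoc, ← map_mul, mul_inv_cancel, map_one, one_mul]

include h in
/-- The degree of the action on the fixed space of the radical. -/
theorem levi_bound [DecidableEq F] {S : ℕ → Bool} (hS : E.S = S) {Lc : LCfg} (hL : Lc.chk T S d Q = true)
    (hn : 5 ≤ Lc.n) {i j : Fin Lc.n} (hij : i ≠ j) {s : F} {x : range (e0 E d f)}
    (hx : x ∈ range (ReeRep.proj (RQ f h.hQ) (ch ψ₁ 0))) (hmove : f (E.x (Lc.rt i j) s) (x : W) ≠ (x : W)) :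
    (Fintype.card F ^ Lc.n - Fintype.card F) / (Fintype.card F - 1) ≤ mu ψ₁ (RQ f h.hQ) 0 := by
  classical
  subst hS
  simp only [LCfg.chk, Bool.and_eq_true, List.all_eq_true, List.mem_range, Bool.or_eq_true, beq_iff_eq] at hL
  obtain ⟨P, hP⟩ : ∃ P, P = ReeRep.proj (RQ f h.hQ) (ch ψ₁ 0) := ⟨_, rfl⟩
  have hne : ∀ (a b : Fin Lc.n), a ≠ b → ¬ (a : ℕ) = (b : ℕ) := fun a b hab e => hab (Fin.ext e)
  have hc1 : ∀ (a b : Fin Lc.n), a ≠ b → com T E.S d.th (Lc.rt a b) = true := fun a b hab =>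
    ((hL a a.2 b b.2).resolve_left (hne a b hab)).1.1.1.1
  have hc2 : ∀ (a b : Fin Lc.n), a ≠ b → shiftChk T E.S [d.th] Q.qs (Lc.rt a b) = true := fun a b hab =>
    ((hL a a.2 b b.2).resolve_left (hne a b hab)).1.1.1.2
  have hsg : ∀ (a b : Fin Lc.n), a ≠ b → Lc.sg a b = 1 ∨ Lc.sg a b = -1 := fun a b hab =>
    ((hL a a.2 b b.2).resolve_left (hne a b hab)).1.1.2
  obtain ⟨y, hy⟩ : ∃ y : Fin Lc.n → Fin Lc.n → F → HP (onRange f (e0 E d f)) P,
      ∀ a b (hab : a ≠ b) t, (((y a b t) : HP f (e0 E d f)) : G) = E.x (Lc.rt a b) ((Lc.sg a b : F) * t) :=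
    ⟨fun a b t => if hab : a ≠ b then ⟨_, hP ▸ mem_H2 h rfl (hc1 a b hab) (hc2 a b hab) ((Lc.sg a b : F) * t)⟩ else 1,
      fun a b hab t => by simp only [dif_pos hab]⟩
  have hext : ∀ {u v : HP (onRange f (e0 E d f)) P}, ((u : HP f (e0 E d f)) : G) = ((v : HP f (e0 E d f)) : G) → u = v :=
    fun e => Subtype.ext (Subtype.ext e)
  let D : SLPres.Data Lc.n F (HP (onRange f (e0 E d f)) P) :=
    { y := y
      add := fun a b hab t u => hext (by
        simp only [Subgroup.coe_mul, hy a b hab, ← AddChar.map_add_eq_mul, mul_add])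
      comm := fun a b c e hab hce hae hbc t u => hext (by
        simp only [Subgroup.coe_mul, hy a b hab, hy c e hce]
        refine (E.commute ?_ _ _).eq
        have := ((hL a a.2 b b.2).resolve_left (hne a b hab)).1.2 c c.2 e e.2
        rcases this with ((h1 | h1) | h1) | h1
        · exact absurd h1 (hne c e hce)
        · exact absurd h1 (fun h1 => hae (Fin.ext h1).symm)
        · exact absurd h1 (hne b c hbc)
        · exact h1)
      brac := fun a b e hab hbe hae t u => hext (by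
        simp only [commutatorElement_def, Subgroup.coe_mul, InvMemClass.coe_inv, hy a b hab, hy b e hbe, hy a e hae]
        obtain ⟨h1, h2⟩ := (((hL a a.2 b b.2).resolve_left (hne a b hab)).2 e e.2).resolve_left
          (fun hh => hh.elim (hne b e hbe) (hne a e hae))
        rcases hs : sumR T (Lc.rt a b) (Lc.rt b e) with _ | ⟨r, C⟩
        · simp [hs] at h2
        simp only [hs, beq_iff_eq] at h2
        obtain rfl : r = Lc.rt a e := by
          simp only [bra, hs, Bool.and_eq_true, beq_iff_eq] at h1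
          exact h1.1.1.2.1
        rw [← commutatorElement_def, E.bracket_comm h1 hs, ← h2]
        congr 1
        push_cast
        ring) }
  obtain ⟨φ, hφ⟩ := SLPres.exists_hom_of_data D
  obtain ⟨e, hπ⟩ := exists_equiv (F := F) (show 3 ≤ Lc.n by omega)
  let ρ : Representation ℂ (Matrix.SpecialLinearGroup (Fin Lc.n) F) (range P) :=
    (onRange (onRange f (e0 E d f)) P).comp (φ.comp e.symm.toMonoidHom)
  have hb := sl_bound hn ρ ⟨Matrix.SpecialLinearGroup.transvection hij ((Lc.sg i j : F) * s), fun e1 => hmove ?_⟩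
  · rw [hP] at hb
    exact hb
  have he : e.symm (Matrix.SpecialLinearGroup.transvection hij ((Lc.sg i j : F) * s)) =
      PresentedGroup.of (⟨(i, j), hij⟩, (Lc.sg i j : F) * s) := e.symm_apply_eq.2 (hπ ⟨(i, j), hij⟩ _).symm
  have e2 : ρ (Matrix.SpecialLinearGroup.transvection hij ((Lc.sg i j : F) * s)) ⟨x, hP ▸ hx⟩ = ⟨x, hP ▸ hx⟩ := by
    rw [e1]; rfl
  have e3 := congrArg Subtype.val (congrArg Subtype.val e2)
  simp only [ρ, MonoidHom.comp_apply, MulEquiv.coe_toMonoidHom, he, hφ, onRange_val] at e3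
  have e4 : ((D.y i j ((Lc.sg i j : F) * s) : HP f (e0 E d f)) : G) = E.x (Lc.rt i j) s := by
    show ((y i j _ : HP f (e0 E d f)) : G) = _
    rw [hy i j hij, ← mul_assoc]
    rcases hsg i j hij with e | e <;> simp [e]
  rw [e4] at e3
  exact e3

end Ctx

end Cfsg.Agent.Heis
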