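/-
Descending from a radical to the Levi complement acting on the fixed space of the radical.
-/
import Cfsg.Agent.Lib.MinDegree.Heis.Levi

set_option autoImplicit false
set_option maxHeartbeats 1000000

namespace Cfsg.Agent.Heis

open LinearMap Module Cfsg.Agent.Chev Cfsg.Agent.Chev.Tab

/-- a sum over the cells from the lists of their free lengths and cases -/
theorem sum_cells_eq {M : Type*} [AddCommMonoid M] {m : ℕ} (len : ℕ → ℕ) (cas : ℕ → Bool) {ls : List ℕ}
    {cs : List Bool} (h1 : (List.range m).map len = ls) (h2 : (List.range m).map cas = cs) (g : ℕ → Bool → M) :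
    ∑ i : Fin m, g (len i) (cas i) = (ls.zipWith g cs).sum := by
  rw [← h1, ← h2, List.zipWith_map, List.zipWith_self,
    Fin.sum_univ_eq_sum_range (fun i => g (len i) (cas i)) m]
  rfl

variable {T : Tab} {F G : Type*} [Field F] [Group G]

/-- checks for a set of roots of the Levi complement -/
def leviChk (T : Tab) (S0 S : ℕ → Bool) (J : ℕ → Bool) (d : Cfg) (Q : QCfg) : Bool :=
  clos T S && ((List.range T.n).all fun r => !S r || (com T S0 d.th r && shiftChk T S0 [d.th] Q.qs r)) &&
    (List.range T.l).all fun i => !J i || (S (T.smp i) && S (T.neg (T.smp i)) &&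
      (List.range T.n).all fun s => !S s || S (T.ref i s))

/-- the monomial elements are products of root elements -/
def Grp.Mono (E : Grp T F G) : Prop :=
  ∀ i, E.J i = true → i < T.l →
    E.w i = E.x (T.smp i) 1 * E.x (T.neg (T.smp i)) (-1) * E.x (T.smp i) 1

/-- A set of roots of the Levi complement. -/
structure LeviOK (E : Grp T F G) (d : Cfg) (Q : QCfg) (S J : ℕ → Bool) : Prop where
  lt : ∀ r, S r = true → r < T.n
  chk : leviChk T E.S S J d Q = true
  sub : ∀ i, J i = true → i < T.l → E.J i = true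
  mono : Grp.Mono E

variable {W : Type*} [AddCommGroup W] [Module ℂ W] [FiniteDimensional ℂ W] [Fintype F]
variable {d : Cfg} {E : Grp T F G} {Q : QCfg} {fx : List ℕ} {f : G →* Module.End ℂ W} {ψ₁ : AddChar F ℂ}

theorem trace_conj_word (E : Grp T F G) (f : G →* Module.End ℂ W) {w : List ℕ} {a : ℕ}
    (hw : Grp.wordOK T E.S E.J w a = true) (t : F) :
    trace ℂ W (f (E.x (T.rw' w a) ((Grp.wSign T w a : F) * t))) = trace ℂ W (f (E.x a t)) := by
  rw [← E.nw_conj hw t, map_mul f, map_mul f, trace_mul_comm, ← mul_assoc, ← map_mul f, inv_mul_cancel, map_one f,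
    one_mul]

namespace LeviOK

variable {S J : ℕ → Bool} (o : LeviOK E d Q S J)

include o in
theorem com_th {r : ℕ} (hr : S r = true) : com T E.S d.th r = true ∧ shiftChk T E.S [d.th] Q.qs r = true := by
  have h := o.chk
  simp only [leviChk, Bool.and_eq_true, List.all_eq_true, List.mem_range, Bool.or_eq_true, Bool.not_eq_true'] at h
  exact (h.1.2 r (o.lt r hr)).resolve_left (by simp [hr])

include o in
theorem clos_S : clos T S = true := by
  have h := o.chk
  simp only [leviChk, Bool.and_eq_true] at h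
  exact h.1.1

include o in
theorem of_J {i : ℕ} (hi : J i = true) (hl : i < T.l) :
    S (T.smp i) = true ∧ S (T.neg (T.smp i)) = true ∧ ∀ s, S s = true → s < T.n → S (T.ref i s) = true := by
  have h := o.chk
  simp only [leviChk, Bool.and_eq_true, List.all_eq_true, List.mem_range, Bool.or_eq_true, Bool.not_eq_true'] at h
  have h' := (h.2 i hl).resolve_left (by simp [hi])
  exact ⟨h'.1.1, h'.1.2, fun s hs hn => (h'.2 s hn).resolve_left (by simp [hs])⟩

include o in
theorem S_sub {r : ℕ} (hr : S r = true) : E.S r = true := by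
  have h := (o.com_th hr).1
  simp only [com, Bool.and_eq_true] at h
  exact h.1.1.1.2

end LeviOK

namespace Ctx

variable (h : Ctx d E Q fx f ψ₁) {S J : ℕ → Bool} (o : LeviOK E d Q S J)

/-- the root elements commuting with the centre -/
noncomputable def levi₁ : Grp T F (HP f (e0 E d f)) :=
  E.restrict _ S J (fun _ hr _ => o.S_sub hr) o.clos_S (fun _ hr t => mem_H f (o.com_th hr).1 t) fun i hi hl =>
    ⟨o.sub i hi hl, by
      rw [o.mono i (o.sub i hi hl) hl]
      exact mul_mem (mul_mem (mem_H f (o.com_th (o.of_J hi hl).1).1 _) (mem_H f (o.com_th (o.of_J hi hl).2.1).1 _))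
        (mem_H f (o.com_th (o.of_J hi hl).1).1 _), (o.of_J hi hl).2.2⟩

theorem levi₁_x {r : ℕ} (hr : S r = true) (t : F) :
    ((levi₁ (f := f) o).x r t : G) = E.x r t := Grp.restrict_x E _ _ _ _ _ _ _ hr t

theorem levi₁_mono : Grp.Mono (levi₁ (f := f) o) := by
  intro i hi hl
  refine Subtype.ext ?_
  have hw : E.w i ∈ HP f (e0 E d f) := by
    rw [o.mono i (o.sub i hi hl) hl]
    exact mul_mem (mul_mem (mem_H f (o.com_th (o.of_J hi hl).1).1 _) (mem_H f (o.com_th (o.of_J hi hl).2.1).1 _))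
      (mem_H f (o.com_th (o.of_J hi hl).1).1 _)
  rw [Subgroup.coe_mul, Subgroup.coe_mul, levi₁_x o (o.of_J hi hl).1, levi₁_x o (o.of_J hi hl).2.1, ← o.mono i (o.sub i hi hl) hl]
  classical
  show ((if h : E.w i ∈ HP f (e0 E d f) then (⟨_, h⟩ : HP f (e0 E d f)) else 1 : HP f (e0 E d f)) : G) = _
  rw [dif_pos hw]

/-- the projection on the fixed space of the radical -/
noncomputable def P : Module.End ℂ (range (e0 E d f)) := ReeRep.proj (RQ f h.hQ) (ch ψ₁ 0)

/-- the subgroup acting on the fixed space of the radical -/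
noncomputable abbrev H2 : Subgroup (HP f (e0 E d f)) := HP (onRange f (e0 E d f)) (P h)

include h in
theorem levi₁_mem {r : ℕ} (hr : S r = true) (t : F) : (levi₁ (f := f) o).x r t ∈ H2 h := by
  have e : (levi₁ (f := f) o).x r t = ⟨_, mem_H f (o.com_th hr).1 t⟩ := Subtype.ext (levi₁_x o hr t)
  rw [e]
  exact mem_H2 h rfl (o.com_th hr).1 (o.com_th hr).2 t

/-- The Levi complement on the fixed space of the radical. -/
noncomputable def levi : Grp T F (H2 h) :=
  (levi₁ (f := f) o).restrict _ S J (fun _ hr _ => hr) o.clos_S (fun _ hr t => levi₁_mem h o hr t) fun i hi hl =>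
    ⟨hi, by
      rw [levi₁_mono o i hi hl]
      exact mul_mem (mul_mem (levi₁_mem h o (o.of_J hi hl).1 _) (levi₁_mem h o (o.of_J hi hl).2.1 _))
        (levi₁_mem h o (o.of_J hi hl).1 _), (o.of_J hi hl).2.2⟩

/-- The action of the Levi complement on the fixed space of the radical. -/
noncomputable def act : H2 h →* Module.End ℂ (range (P h)) := onRange (onRange f (e0 E d f)) (P h)

theorem levi_S : (levi h o).S = S := rfl

theorem levi_J : (levi h o).J = J := rfl

theorem levi_x {r : ℕ} (hr : S r = true) (t : F) :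
    ((((levi h o).x r t : H2 h) : HP f (e0 E d f)) : G) = E.x r t :=
  (congrArg Subtype.val (Grp.restrict_x (levi₁ (f := f) o) _ _ _ _ _ _ _ hr t)).trans (levi₁_x o hr t)

theorem levi_mono : Grp.Mono (levi h o) := by
  intro i hi hl
  refine Subtype.ext ?_
  have hw : (levi₁ (f := f) o).w i ∈ H2 h := by
    rw [levi₁_mono o i hi hl]
    exact mul_mem (mul_mem (levi₁_mem h o (o.of_J hi hl).1 _) (levi₁_mem h o (o.of_J hi hl).2.1 _))
      (levi₁_mem h o (o.of_J hi hl).1 _)
  rw [Subgroup.coe_mul, Subgroup.coe_mul]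
  have ex : ∀ {r : ℕ}, S r = true → ∀ t, (((levi h o).x r t : H2 h) : HP f (e0 E d f)) = (levi₁ (f := f) o).x r t :=
    fun hr t => Grp.restrict_x (levi₁ (f := f) o) _ _ _ _ _ _ _ hr t
  rw [ex (o.of_J hi hl).1, ex (o.of_J hi hl).2.1, ← levi₁_mono o i hi hl]
  classical
  show ((if h' : (levi₁ (f := f) o).w i ∈ H2 h then (⟨_, h'⟩ : H2 h) else 1 : H2 h) : HP f (e0 E d f)) = _
  rw [dif_pos hw]

theorem act_val {r : ℕ} (hr : S r = true) (t : F) (x : range (P h)) :
    (((act h ((levi h o).x r t) x : range (P h)) : range (e0 E d f)) : W) = f (E.x r t) ((x : range (e0 E d f)) : W) := by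
  show f ((((levi h o).x r t : H2 h) : HP f (e0 E d f)) : G) _ = _
  rw [levi_x h o hr]
  rfl

theorem act_th (hth : S d.th = true) (t : F) : act h ((levi h o).x d.th t) = 1 := by
  refine LinearMap.ext fun x => Subtype.ext (Subtype.ext ?_)
  rw [act_val h o hth]
  exact (mem_C_iff f _).1 (x : range (e0 E d f)).2 t

/-- traces through the descent -/
theorem trace_act {r : ℕ} (hr : S r = true) (t : F) (hc : com T E.S d.th r = true) :
    trace ℂ _ (act h ((levi h o).x r t)) = trace ℂ _ (onRange f (e0 E d f) ⟨_, mem_H f hc t⟩ * P h) := by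
  refine (trace_onRange (onRange f (e0 E d f)) (P := P h) (ReeRep.isIdempotentElem_proj _) _).trans ?_
  congr 3
  exact Subtype.ext (levi_x h o hr t)

theorem finrank_P : finrank ℂ (range (P h)) = mu ψ₁ (RQ f h.hQ) 0 := rfl

end Ctx

/-! ### The case of a trivially acting centre -/

theorem e0_eq_one (hfix : ∀ t, f (E.x d.th t) = 1) : e0 E d f = 1 := by
  rw [e0, ReeRep.proj]
  have e : ∀ s : F, (0 : AddChar F ℂ) (-s) • (f.compAddChar (E.x d.th)) s = (1 : Module.End ℂ W) := fun s => by
    rw [AddChar.zero_apply, one_smul]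
    exact hfix s
  rw [Finset.sum_congr rfl fun s _ => e s, Finset.sum_const, Finset.card_univ, ← Nat.cast_smul_eq_nsmul ℂ, smul_smul,
    inv_mul_cancel₀ (Nat.cast_ne_zero.2 Fintype.card_ne_zero), one_smul]

theorem finrank_C_of_fix (hfix : ∀ t, f (E.x d.th t) = 1) : finrank ℂ (range (e0 E d f)) = finrank ℂ W := by
  rw [e0_eq_one hfix, Module.End.one_eq_id, LinearMap.range_id, finrank_top]

/-- The hypotheses when the first root acts trivially. -/
theorem Ctx.ofFix (hd : Cfg.Good0 d E) (hQ : QCfg.Good Q d E fx) (hψ : ψ₁.IsPrimitive)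
    (hfx : ∃ L, run T E.S d.ys L (d.ys.filter (· != d.r0)) [d.r0] = some fx) (hfix : ∀ t, f (E.x d.th t) = 1)
    (hmult : ∀ a : F, a ≠ 0 → ReeRep.mult (f.compAddChar (E.x d.r0)) (ψ₁.mulShift a) = Fintype.card F ^ d.n) :
    Ctx d E Q fx f ψ₁ := by
  classical
  haveI : Fintype ((Fin d.n → F) →ₗ[F] F) := Fintype.ofFinite _
  haveI : Fintype (F × F × (Fin d.n → F) →ₗ[F] F) := Fintype.ofFinite _
  refine ⟨hd, hQ, hψ, hfx, fun a ha φ => ?_⟩
  obtain ⟨R, hR⟩ : ∃ R, R = f.compAddChar (Cfg.Y hd) := ⟨_, rfl⟩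
  rw [← hR]
  have hk0 : ∀ k : F, k ≠ 0 → ∀ χ : (Fin d.n → F) →ₗ[F] F, mu ψ₁ R (lf k a χ) = 0 := by
    intro k hk χ
    by_contra hne
    obtain ⟨v, hv0, hv⟩ := exists_of_mu_ne_zero hne
    refine hψ hk (DFunLike.ext _ _ fun t => ?_)
    have e := eig_apply hv (t, 0, 0)
    rw [hR, show (f.compAddChar (Cfg.Y hd)) (t, 0, 0) = f (Cfg.Y hd (t, 0, 0)) from rfl, Cfg.Y_th, hfix,
      Module.End.one_apply, lf_apply] at e
    simp only [map_zero, mul_zero, add_zero] at e
    rw [AddChar.mulShift_apply, AddChar.one_apply]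
    by_contra h'
    exact hv0 ((smul_eq_zero.1 (show (ψ₁ (k * t) - 1) • v = 0 by
      rw [sub_smul, one_smul, ← e, sub_self])).resolve_left (sub_ne_zero.2 h'))
  have hcst : ∀ χ, mu ψ₁ R (lf 0 a χ) = mu ψ₁ R (lf 0 a 0) := by
    intro χ
    obtain ⟨g, hg⟩ := Cfg.realD hd (a⁻¹ • χ)
    obtain ⟨A, hA⟩ : ∃ A, A = LinearMap.id + (LinearMap.inr F F (F × (Fin d.n → F))) ∘ₗ
        (LinearMap.inl F F (Fin d.n → F)) ∘ₗ (a⁻¹ • χ) ∘ₗ
        LinearMap.snd F F (Fin d.n → F) ∘ₗ LinearMap.snd F F (F × (Fin d.n → F)) := ⟨_, rfl⟩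
    have hAv : ∀ v, A v = (v.1, v.2.1 + (a⁻¹ • χ) v.2.2, v.2.2) := fun v => by
      rw [hA]; ext <;> simp
    have hbij : Function.Bijective A := Finite.injective_iff_bijective.1 fun u v h => by
      rw [hAv, hAv] at h
      simp only [Prod.mk.injEq] at h
      obtain ⟨h1, h2, h3⟩ := h
      rw [h3] at h2
      exact Prod.ext h1 (Prod.ext (add_right_cancel h2) h3)
    rw [show lf 0 a χ = lf 0 a 0 ∘ₗ A from LinearMap.ext fun v => by
      rw [LinearMap.comp_apply, hAv, lf_apply, lf_apply]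
      simp [mul_add, ha]]
    refine mu_conj (g := f g) (g' := f g⁻¹) A hbij (by rw [← map_mul, mul_inv_cancel, map_one]) (fun v => ?_) _
    rw [hR]
    show f g⁻¹ * f (Cfg.Y hd (A v)) * f g = f (Cfg.Y hd v)
    rw [hAv, ← hg, ← map_mul, ← map_mul]
    congr 1
    group
  have hsum := hmult a ha
  have eR : R.compAddMonoidHom ((LinearMap.inr F F (F × (Fin d.n → F))) ∘ₗ
      LinearMap.inl F F (Fin d.n → F)).toAddMonoidHom = f.compAddChar (E.x d.r0) := DFunLike.ext _ _ fun t => by
    rw [AddChar.compAddMonoidHom_apply, hR]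
    exact congrArg f (Cfg.Y_r0 hd t)
  have hch : ψ₁.mulShift a = ch ψ₁ (a • (LinearMap.id : F →ₗ[F] F)) :=
    DFunLike.ext _ _ fun t => by simp [ch_apply, AddChar.mulShift_apply]
  rw [← eR, hch] at hsum
  change mu ψ₁ _ _ = _ at hsum
  rw [mu_restrict hψ] at hsum
  have hiff : ∀ l : F × F × (Fin d.n → F) →ₗ[F] F,
      l ∘ₗ ((LinearMap.inr F F (F × (Fin d.n → F))) ∘ₗ LinearMap.inl F F (Fin d.n → F)) = a • LinearMap.id ↔
        l (0, 1, 0) = a := fun l => by
    refine ⟨fun h => ?_, fun h => LinearMap.ext_ring ?_⟩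
    · have := LinearMap.congr_fun h 1
      simpa using this
    · simpa using h
  rw [Finset.filter_congr fun l _ => hiff l, Finset.sum_filter, ← Equiv.sum_comp lfEquiv, Fintype.sum_prod_type,
    Finset.sum_eq_single (0 : F) ?_ (by simp), Fintype.sum_prod_type, Finset.sum_eq_single a ?_ (by simp)] at hsum
  · rw [Finset.sum_congr rfl fun χ _ => show (if lfEquiv (0, a, χ) (0, 1, 0) = a then mu ψ₁ R (lfEquiv (0, a, χ)) else 0) =
      mu ψ₁ R (lf 0 a 0) by
        show (if lf 0 a χ (0, 1, 0) = a then mu ψ₁ R (lf 0 a χ) else 0) = _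
        rw [if_pos (by simp [lf_apply]), hcst],
      Finset.sum_const, Finset.card_univ, ← Fintype.card_congr cf, Fintype.card_fun, Fintype.card_fin,
      smul_eq_mul] at hsum
    rw [hcst]
    exact Nat.eq_of_mul_eq_mul_left (pow_pos Fintype.card_pos _) (hsum.trans (mul_one _).symm)
  · intro b _ hb
    refine Finset.sum_eq_zero fun χ _ => if_neg ?_
    show ¬ lf 0 b χ (0, 1, 0) = a
    simpa [lf_apply] using hb
  · intro k _ hk
    refine Finset.sum_eq_zero fun p _ => ?_
    show (if lf k p.1 p.2 (0, 1, 0) = a then mu ψ₁ R (lf k p.1 p.2) else 0) = 0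
    split_ifs with hp
    · simp only [lf_apply, mul_zero, mul_one, map_zero, add_zero, zero_add] at hp
      rw [hp]
      exact hk0 k hk p.2
    · rfl

end Cfsg.Agent.Heis
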